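import Cfsg.Agent.Lib.QuadPair.GenAlgebra

/-!
The derived series of `genPairR k α` for a finite dimensional `k[α]`, `α` a unit:
* `derived_dichotomy` : `k[α]` is a field (and then every unitriangular matrix lies in each derived term), or
  every derived term contains some `upR x`, `x ≠ 0` not a unit
-/

set_option autoImplicit false

namespace Cfsg.Agent.QuadPair

open Matrix
open scoped MatrixGroups commutatorElement

theorem exists_scalar {k : Type*} [Field k] (hk2 : ringChar k ≠ 2) (hk3 : Nat.card k ≠ 3) :
    ∃ c : k, c ≠ 0 ∧ c ^ 2 - 1 ≠ 0 := by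
  classical
  have h2 := Ring.two_ne_zero hk2
  by_contra! h
  have hsub : ∀ c : k, c ∈ ({0, 1, -1} : Finset k) := fun c => by
    rcases eq_or_ne c 0 with rfl | hc
    · simp
    · have : (c - 1) * (c + 1) = 0 := by linear_combination h c hc
      rcases mul_eq_zero.1 this with h | h
      · simp [sub_eq_zero.1 h]
      · simp [eq_neg_of_add_eq_zero_left h]
  haveI : Fintype k := ⟨{0, 1, -1}, hsub⟩
  refine hk3 ?_
  rw [Nat.card_eq_fintype_card, ← Finset.card_univ,
    show (Finset.univ : Finset k) = {0, 1, -1} from (Finset.eq_univ_iff_forall.2 hsub).symm, Finset.card_eq_three]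
  exact ⟨0, 1, -1, zero_ne_one, fun e => one_ne_zero (neg_eq_zero.1 e.symm),
    fun e => h2 (by linear_combination e), rfl⟩

theorem elem_mem_derived {k L : Type*} [Field k] [CommRing L] [Algebra k L] (hk2 : ringChar k ≠ 2)
    (hk3 : Nat.card k ≠ 3) {X : Subgroup SL(2, L)} (hU : ∀ t, upR t ∈ X) (hL : ∀ t, loR t ∈ X) :
    ∀ (n : ℕ) (t : L), (⟨upR t, hU t⟩ : X) ∈ derivedSeries X n ∧ (⟨loR t, hL t⟩ : X) ∈ derivedSeries X n := by
  obtain ⟨c, hc, hc1⟩ := exists_scalar hk2 hk3
  intro n
  induction n with
  | zero => intro t; simp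
  | succ n ih =>
    set u := algebraMap k L c
    set v := algebraMap k L c⁻¹
    set w := algebraMap k L (c ^ 2 - 1)⁻¹
    have huv : u * v = 1 := by rw [← map_mul, mul_inv_cancel₀ hc, map_one]
    have hw : (u ^ 2 - 1) * w = 1 := by
      rw [← map_pow, ← map_one (algebraMap k L), ← map_sub, ← map_mul, mul_inv_cancel₀ hc1]
    let W : L → L → X := fun a b => ⟨upR a, hU a⟩ * ⟨loR b, hL b⟩ * ⟨upR a, hU a⟩
    let d : X := W u (-v) * W (-1) 1
    have hd : d ∈ derivedSeries X n :=
      mul_mem (mul_mem (mul_mem (ih u).1 (ih (-v)).2) (ih u).1)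
        (mul_mem (mul_mem (ih (-1)).1 (ih 1).2) (ih (-1)).1)
    have hdm : (d : SL(2, L)).1 = !![u, 0; 0, v] := by
      ext i j
      fin_cases i <;> fin_cases j <;>
        simp [d, W, coe_upR, coe_loR, Matrix.mul_apply, Fin.sum_univ_two] <;>
        first
          | ring1
          | linear_combination huv
          | linear_combination -huv
          | linear_combination u * huv
          | linear_combination -(u * huv)
          | linear_combination (2 * u) * huv
          | linear_combination -((2 * u) * huv)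
    intro t
    rw [derivedSeries_succ]
    constructor
    · have h := Subgroup.commutator_mem_commutator hd (ih (t * w)).1
      convert h using 1
      rw [commutatorElement_def, eq_mul_inv_iff_mul_eq, eq_mul_inv_iff_mul_eq]
      apply Subtype.ext
      apply Subtype.ext
      ext i j
      fin_cases i <;> fin_cases j <;>
        simp [hdm, coe_upR, Matrix.mul_apply, Fin.sum_univ_two] <;>
        first
          | ring1
          | linear_combination (t * v) * hw - (t * w * u) * huv
          | linear_combination -(t * v) * hw + (t * w * u) * huv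
    · have h := Subgroup.commutator_mem_commutator hd (ih (-(t * u ^ 2 * w))).2
      convert h using 1
      rw [commutatorElement_def, eq_mul_inv_iff_mul_eq, eq_mul_inv_iff_mul_eq]
      apply Subtype.ext
      apply Subtype.ext
      ext i j
      fin_cases i <;> fin_cases j <;>
        simp [hdm, coe_loR, Matrix.mul_apply, Fin.sum_univ_two] <;>
        first
          | ring1
          | linear_combination (t * u) * hw + (t * u * w) * huv
          | linear_combination -(t * u) * hw - (t * u * w) * huv
          | linear_combination (t * u) * hw - (t * u * w) * huv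
          | linear_combination -(t * u) * hw + (t * u * w) * huv

theorem derived_dichotomy {k L : Type*} [Field k] [CommRing L] [Nontrivial L] [Algebra k L]
    (pb : PowerBasis k L) (hk2 : ringChar k ≠ 2) (hk3 : Nat.card k ≠ 3) (h0 : IsUnit pb.gen) :
    (IsField L ∧ ∀ (n : ℕ) (t : L),
      upR t ∈ (derivedSeries ↥(genPairR k pb.gen) n).map (genPairR k pb.gen).subtype ∧
      loR t ∈ (derivedSeries ↥(genPairR k pb.gen) n).map (genPairR k pb.gen).subtype) ∨
    (¬ IsField L ∧ ∀ n : ℕ, ∃ x : L, x ≠ 0 ∧ ¬ IsUnit x ∧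
      upR x ∈ (derivedSeries ↥(genPairR k pb.gen) n).map (genPairR k pb.gen).subtype) := by
  by_cases hF : IsField L
  · left
    refine ⟨hF, ?_⟩
    letI := hF.toField
    have htop : genPairR k pb.gen = ⊤ := genPairR_unipotents_of_field pb hk2 hk3 h0.ne_zero
    have hU : ∀ t, upR t ∈ genPairR k pb.gen := fun t => htop ▸ Subgroup.mem_top _
    have hL : ∀ t, loR t ∈ genPairR k pb.gen := fun t => htop ▸ Subgroup.mem_top _
    exact fun n t => ⟨⟨_, (elem_mem_derived hk2 hk3 hU hL n t).1, rfl⟩,
      ⟨_, (elem_mem_derived hk2 hk3 hU hL n t).2, rfl⟩⟩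
  right
  refine ⟨hF, fun n => ?_⟩
  cases finite_or_infinite k
  · haveI := pb.finite
    haveI : Finite L := Module.finite_of_finite k
    obtain ⟨x, hx, hx0, hxu, hxN⟩ := exists_nonunit_in hk2 hk3 h0 pb.adjoin_gen_eq_top hF
      (derivedSeries ↥(genPairR k pb.gen) n) fun m hm => by
        letI : Field (L ⧸ m) := Ideal.Quotient.field m
        haveI : Finite (L ⧸ m) := Finite.of_surjective _ Ideal.Quotient.mk_surjective
        let q : L →ₐ[k] L ⧸ m := Ideal.Quotient.mkₐ k m
        let π : SL(2, L) →* SL(2, L ⧸ m) := Matrix.SpecialLinearGroup.map (q : L →+* L ⧸ m)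
        have htop : (genPairR k pb.gen).map π = ⊤ := by
          refine (genPairR_map q pb.gen).trans (genPairR_eq_top_of_finite hk2 hk3 (h0.map q).ne_zero ?_)
          rw [show ({q pb.gen} : Set (L ⧸ m)) = q '' {pb.gen} by rw [Set.image_singleton], ← AlgHom.map_adjoin,
            pb.adjoin_gen_eq_top, Algebra.map_top, (AlgHom.range_eq_top q).2 Ideal.Quotient.mk_surjective]
        have hsur : Function.Surjective (π.comp (genPairR k pb.gen).subtype) := fun y => by
          obtain ⟨w, hw, e⟩ := htop.ge (Subgroup.mem_top y)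
          exact ⟨⟨w, hw⟩, e⟩
        change ((derivedSeries ↥(genPairR k pb.gen) n).map (genPairR k pb.gen).subtype).map π = ⊤
        rw [Subgroup.map_map, map_derivedSeries_eq hsur n, eq_top_iff, ← RankOne.lower_sup_upper]
        have hall := elem_mem_derived (k := k) hk2 hk3 (X := (⊤ : Subgroup SL(2, L ⧸ m)))
          (fun _ => trivial) (fun _ => trivial) n
        have hmap : ∀ z : (⊤ : Subgroup SL(2, L ⧸ m)), z ∈ derivedSeries _ n →
            (z : SL(2, L ⧸ m)) ∈ derivedSeries SL(2, L ⧸ m) n := fun z hz => by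
          have := map_derivedSeries_le_derivedSeries (Subgroup.topEquiv (G := SL(2, L ⧸ m))).toMonoidHom n
            (Subgroup.mem_map_of_mem _ hz)
          exact this
        refine sup_le ?_ ?_
        · intro y hy
          obtain ⟨t, rfl⟩ := RankOne.mem_lowerUnipotentSL2.1 hy
          exact hmap _ (hall t).2
        · intro y hy
          obtain ⟨t, rfl⟩ := RankOne.mem_upperUnipotentSL2.1 hy
          exact hmap _ (hall t).1
    exact ⟨x, hx0, hxu, ⟨_, hxN, rfl⟩⟩
  · obtain ⟨hU, hL⟩ := RankOne.Dickson.genPairR_unipotents_of_infinite pb (Ring.two_ne_zero hk2) h0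
    obtain ⟨x, hx0, hxu⟩ : ∃ x : L, x ≠ 0 ∧ ¬ IsUnit x := by
      by_contra! h
      exact hF ⟨⟨0, 1, zero_ne_one⟩, mul_comm, fun {a} ha => (h a ha).exists_right_inv⟩
    exact ⟨x, hx0, hxu, ⟨_, (elem_mem_derived hk2 hk3 hU hL n x).1, rfl⟩⟩

end Cfsg.Agent.QuadPair
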