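/-
Two quadratically acting elements (namespace `Cfsg.Agent.QuadPair`).

* `commute_of_involution`: in a group generated by two quadratic elements every involution acts centrally
* `Crit`: `x` and a conjugate generate a subgroup with an involution not commuting with `x`
* `Crit.conj`, `Crit.inv`
* `no_quadratic`: an element with this property cannot act quadratically in odd characteristic
* `crit_psl2`: elements of order `p` of `PSL₂` in characteristic `p` have the property
-/
import Cfsg.Agent.Lib.Quadratic.SLTwoSection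
import Cfsg.Agent.Lib.Quadratic.Ambient

set_option autoImplicit false
set_option linter.unusedSectionVars false
set_option linter.style.haveILetI false

namespace Cfsg.Agent.QuadPair

open scoped commutatorElement

universe u

section Algebra

variable {E : Type*} [Group E] [Finite E] {S : Type*} [Ring S] (f : E →* S) (N M : S)

/-- The shape of a product of the two quadratic operators and of its inverse. -/
def Shape (x : E) : Prop :=
  ∃ α β γ δ : S, (Commute α N ∧ Commute α M) ∧ (Commute β N ∧ Commute β M) ∧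
    (Commute γ N ∧ Commute γ M) ∧ (Commute δ N ∧ Commute δ M) ∧
    f x = α + β * N + γ * M + δ * (N * M) ∧
    f x⁻¹ = α + δ * (N * M + M * N) - β * N - γ * M - δ * (N * M)

/-- In a group generated by two quadratic elements an involution commutes with the first one. -/
theorem commute_of_involution (a b : E) (hgen : Subgroup.closure ({a, b} : Set E) = ⊤)
    (ha : f a = 1 + N) (hb : f b = 1 + M) (hN : N * N = 0) (hM : M * M = 0)
    (h2 : ∀ s : S, s + s = 0 → s = 0) (c : E) (hc : f (c * c) = 1) : Commute (f c) (f a) := by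
  have hN' : ∀ y : S, N * (N * y) = 0 := fun y => by rw [← mul_assoc, hN, zero_mul]
  have hM' : ∀ y : S, M * (M * y) = 0 := fun y => by rw [← mul_assoc, hM, zero_mul]
  have hTN : Commute (N * M + M * N) N := by
    show _ * N = N * _
    simp only [add_mul, mul_add, mul_assoc, hN, hN', mul_zero, zero_add, add_zero]
  have hTM : Commute (N * M + M * N) M := by
    show _ * M = M * _
    simp only [add_mul, mul_add, mul_assoc, hM, hM', mul_zero, zero_add, add_zero]
  have hinv : ∀ (x : E) (s : S), f x = 1 + s → s * s = 0 → f x⁻¹ = 1 - s := by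
    intro x s hx hs
    have h1 : f x⁻¹ * f x = 1 := by rw [← map_mul, inv_mul_cancel, map_one]
    have h3 : (1 + s) * (1 - s) = 1 := by rw [mul_sub, mul_one, add_mul, one_mul, hs]; abel
    calc f x⁻¹ = f x⁻¹ * ((1 + s) * (1 - s)) := by rw [h3, mul_one]
      _ = (f x⁻¹ * f x) * (1 - s) := by rw [hx, mul_assoc]
      _ = 1 - s := by rw [h1, one_mul]
  have key : ∀ x : E, Shape f N M x := by
    intro x
    have hx : x ∈ Submonoid.closure ({a, b} : Set E) := by
      have hx : x ∈ Subgroup.closure ({a, b} : Set E) := hgen ▸ Subgroup.mem_top x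
      rwa [← Subgroup.mem_toSubmonoid, Subgroup.closure_toSubmonoid_of_finite] at hx
    induction hx using Submonoid.closure_induction_left with
    | one =>
      exact ⟨1, 0, 0, 0, ⟨Commute.one_left _, Commute.one_left _⟩, ⟨Commute.zero_left _, Commute.zero_left _⟩,
        ⟨Commute.zero_left _, Commute.zero_left _⟩, ⟨Commute.zero_left _, Commute.zero_left _⟩,
        by simp, by simp⟩
    | mul_left g hg y _ ih =>
      obtain ⟨α, β, γ, δ, hα, hβ, hγ, hδ, h, h'⟩ := ih
      rcases hg with hga | hga <;> rw [hga]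
      · refine ⟨α, α + β, γ, γ + δ, hα, ⟨hα.1.add_left hβ.1, hα.2.add_left hβ.2⟩, hγ,
          ⟨hγ.1.add_left hδ.1, hγ.2.add_left hδ.2⟩, ?_, ?_⟩
        · rw [map_mul, ha, h]
          simp only [add_mul, one_mul, mul_add, ← mul_assoc, ← hα.1.eq, ← hβ.1.eq, ← hγ.1.eq, ← hδ.1.eq]
          simp only [mul_assoc, hN, hN', mul_zero, zero_mul, add_zero]
          abel
        · rw [mul_inv_rev, map_mul, h', hinv a N ha hN]
          have e : M * N = (N * M + M * N) - N * M := by abel
          have e' : N * (M * N) = (N * M + M * N) * N := by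
            simp only [add_mul, mul_assoc, hN, mul_zero, add_zero]
          simp only [mul_sub, sub_mul, add_mul, mul_one, mul_add, mul_assoc, hN, hN', mul_zero, add_zero, sub_zero]
          abel
      · refine ⟨α + β * (N * M + M * N), β, α + γ + δ * (N * M + M * N), δ - β,
          ⟨hα.1.add_left (hβ.1.mul_left hTN), hα.2.add_left (hβ.2.mul_left hTM)⟩, hβ,
          ⟨(hα.1.add_left hγ.1).add_left (hδ.1.mul_left hTN), (hα.2.add_left hγ.2).add_left (hδ.2.mul_left hTM)⟩,
          ⟨hδ.1.sub_left hβ.1, hδ.2.sub_left hβ.2⟩, ?_, ?_⟩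
        · rw [map_mul, hb, h]
          simp only [add_mul, one_mul, mul_add, ← mul_assoc, ← hα.2.eq, ← hβ.2.eq, ← hγ.2.eq, ← hδ.2.eq]
          simp only [mul_assoc, sub_mul, mul_add, add_mul, hM, hM', mul_zero, add_zero, zero_add]
          abel
        · rw [mul_inv_rev, map_mul, h', hinv b M hb hM]
          simp only [mul_sub, sub_mul, add_mul, mul_one, mul_add, mul_assoc, hM, hM', mul_zero, add_zero, sub_zero]
          abel
  obtain ⟨α, β, γ, δ, hα, hβ, hγ, hδ, h, h'⟩ := key c
  have hcc : f c⁻¹ = f c := by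
    have h1 : f c⁻¹ * f c = 1 := by rw [← map_mul, inv_mul_cancel, map_one]
    calc f c⁻¹ = f c⁻¹ * (f c * f c) := by rw [← map_mul, hc, mul_one]
      _ = f c := by rw [← mul_assoc, h1, one_mul]
  have hsum : f c + f c = α + α + δ * (N * M + M * N) := by
    nth_rewrite 2 [← hcc]
    rw [h, h']
    abel
  have hcomm : Commute (f c + f c) N := by
    rw [hsum]
    exact (hα.1.add_left hα.1).add_left (hδ.1.mul_left hTN)
  have h0 : f c * N - N * f c = 0 := h2 _ (by
    have := hcomm.eq
    rw [add_mul, mul_add] at this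
    rw [sub_add_sub_comm, this, sub_self])
  rw [ha]
  exact (Commute.one_right _).add_right (sub_eq_zero.mp h0)

end Algebra

section Criterion

variable {Q : Type*} [Group Q]

/-- `x` and one of its conjugates generate a subgroup with an involution not commuting with `x`. -/
def Crit (x : Q) : Prop :=
  ∃ g c : Q, c ∈ Subgroup.closure ({x, g * x * g⁻¹} : Set Q) ∧ c * c = 1 ∧ c * x ≠ x * c

theorem Crit.map {Q' : Type*} [Group Q'] (e : Q ≃* Q') {x : Q} (h : Crit x) : Crit (e x) := by
  obtain ⟨g, c, hc, hcc, hne⟩ := h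
  refine ⟨e g, e c, ?_, by rw [← map_mul, hcc, map_one], fun hh => hne (e.injective (by rwa [map_mul, map_mul]))⟩
  have h1 := Subgroup.mem_map_of_mem e.toMonoidHom hc
  rw [MonoidHom.map_closure, Set.image_pair] at h1
  simpa using h1

theorem Crit.inv {x : Q} (h : Crit x) : Crit x⁻¹ := by
  obtain ⟨g, c, hc, hcc, hne⟩ := h
  refine ⟨g, c, ?_, hcc, fun hh => hne (Commute.inv_right_iff.1 hh).eq⟩
  refine (Subgroup.closure_le _).2 ?_ hc
  rintro y (rfl | rfl)
  · rw [SetLike.mem_coe, ← inv_mem_iff]
    exact Subgroup.subset_closure (Set.mem_insert _ _)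
  · rw [SetLike.mem_coe, ← inv_mem_iff]
    exact Subgroup.subset_closure (Set.mem_insert_of_mem _ (Set.mem_singleton_iff.2 (by group)))

theorem Crit.conj {x : Q} (h : Crit x) (t : Q) : Crit (t * x * t⁻¹) := by
  simpa using h.map (MulAut.conj t)

/-- The reverse direction of `Crit.conj`. -/
theorem Crit.of_conj {x : Q} (t : Q) (h : Crit (t * x * t⁻¹)) : Crit x := by
  have := h.conj t⁻¹
  rwa [show t⁻¹ * (t * x * t⁻¹) * t⁻¹⁻¹ = x by group] at this

end Criterion

section Ambient

variable {G : Type*} [Group G] [Finite G] {p : ℕ} [Fact p.Prime]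

/-- An element with the involution property does not act quadratically, `p` odd. -/
theorem no_quadratic (hp : p ≠ 2) {V H : Subgroup G} (hV : Cfsg.IsElementaryAbelian p V)
    (hHV : H ≤ Subgroup.normalizer (V : Set G))
    [hn : ((Subgroup.centralizer (V : Set G)).subgroupOf H).Normal] {a : H}
    (hquad : ∀ v ∈ V, Commute (a : G) ((a : G) * v * (a : G)⁻¹ * v⁻¹))
    (hcrit : Crit ((a : H) : ↥H ⧸ (Subgroup.centralizer (V : Set G)).subgroupOf H)) : False := by
  obtain ⟨gq, cq, hcl, hcc, hne⟩ := hcrit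
  obtain ⟨g, rfl⟩ := QuotientGroup.mk_surjective gq
  set C := (Subgroup.centralizer (V : Set G)).subgroupOf H with hC
  have himg : Subgroup.closure ({(a : ↥H ⧸ C), (g : ↥H ⧸ C) * a * (g : ↥H ⧸ C)⁻¹} : Set (↥H ⧸ C)) =
      (Subgroup.closure ({a, g * a * g⁻¹} : Set H)).map (QuotientGroup.mk' C) := by
    rw [MonoidHom.map_closure, Set.image_pair]
    simp
  rw [himg] at hcl
  obtain ⟨c, hc, rfl⟩ := hcl
  set X := Subgroup.closure ({a, g * a * g⁻¹} : Set H) with hX
  letI : CommGroup V := { mul_comm := fun u v => hV.1.1.1 u v }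
  letI : Module (ZMod p) (Additive V) :=
    AddCommGroup.zmodModule (n := p) fun v =>
      congrArg Additive.ofMul (Subtype.ext (hV.2 _ (Additive.toMul v).2) : (Additive.toMul v : V) ^ p = 1)
  let θ : H →* MulAut V := V.normalizerMonoidHom.comp (Subgroup.inclusion hHV)
  have hθ : ∀ (h : H) (x : V), ((θ h x : V) : G) = h * x * (h : G)⁻¹ := fun h x => rfl
  let ρ : H →* Module.End (ZMod p) (Additive V) :=
    { toFun := fun u => (θ u).toMonoidHom.toAdditive.toZModLinearMap p
      map_one' := LinearMap.ext fun v => by simp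
      map_mul' := fun u w => LinearMap.ext fun v => by simp }
  have happ : ∀ u v, ρ u v = Additive.ofMul (θ u (Additive.toMul v)) := fun _ _ => rfl
  have hker : ∀ u : H, ρ u = 1 ↔ u ∈ C := by
    intro u
    rw [hC, Subgroup.mem_subgroupOf]
    constructor
    · intro h
      refine Subgroup.mem_centralizer_iff.2 fun x hx => ?_
      have h1 : θ u ⟨x, hx⟩ = ⟨x, hx⟩ :=
        congrArg Additive.toMul (LinearMap.congr_fun h (Additive.ofMul (⟨x, hx⟩ : V)))
      have h2 := congrArg Subtype.val h1
      rw [hθ] at h2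
      exact (mul_inv_eq_iff_eq_mul.1 h2).symm
    · intro h
      refine LinearMap.ext fun v => ?_
      apply Additive.toMul.injective
      rw [happ]
      refine Subtype.ext ?_
      rw [toMul_ofMul, hθ, ← Subgroup.mem_centralizer_iff.1 h _ (Additive.toMul v).2,
        mul_inv_cancel_right]
      rfl
  have hq : ∀ u : H, (∀ v ∈ V, Commute (u : G) ((u : G) * v * (u : G)⁻¹ * v⁻¹)) →
      (ρ u - 1) * (ρ u - 1) = 0 := by
    intro u hu
    refine LinearMap.ext fun v => ?_
    rw [Module.End.mul_apply, LinearMap.sub_apply, LinearMap.sub_apply, LinearMap.zero_apply,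
      Module.End.one_apply, Module.End.one_apply, sub_eq_zero, happ, happ]
    apply Additive.toMul.injective
    simp only [toMul_sub, toMul_ofMul, div_eq_mul_inv]
    refine Subtype.ext ?_
    rw [hθ, Subgroup.coe_mul, Subgroup.coe_inv, hθ, (hu _ (Additive.toMul v).2).eq, mul_inv_cancel_right]
  let a' : X := ⟨a, Subgroup.subset_closure (Set.mem_insert _ _)⟩
  let b' : X := ⟨g * a * g⁻¹, Subgroup.subset_closure (Set.mem_insert_of_mem _ (Set.mem_singleton _))⟩
  have hgen : Subgroup.closure ({a', b'} : Set X) = ⊤ := by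
    refine Subgroup.map_injective X.subtype_injective ?_
    rw [MonoidHom.map_closure, Set.image_pair, ← MonoidHom.range_eq_map, Subgroup.range_subtype]
    rfl
  have h2 : ∀ s : Module.End (ZMod p) (Additive V), s + s = 0 → s = 0 := by
    intro s hs
    have h2' : (2 : ZMod p) ≠ 0 := fun h0 => hp ((Nat.prime_dvd_prime_iff_eq Fact.out Nat.prime_two).1
      ((ZMod.natCast_eq_zero_iff 2 p).1 (by exact_mod_cast h0)))
    rw [← two_smul (ZMod p) s] at hs
    rw [← one_smul (ZMod p) s, ← inv_mul_cancel₀ h2', mul_smul, hs, smul_zero]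
  have hcomm := commute_of_involution (ρ.comp X.subtype) (ρ a - 1) (ρ (g * a * g⁻¹) - 1) a' b' hgen
    (add_sub_cancel _ _).symm (add_sub_cancel _ _).symm (hq a hquad)
    (hq _ (Quadratic.commute_of_quad_conj (hHV g.2) hquad)) h2 ⟨c, hc⟩
    (by
      show ρ (c * c) = 1
      rw [hker, ← QuotientGroup.eq_one_iff]
      exact hcc)
  refine hne ?_
  show ((c : ↥H ⧸ C) * a) = a * c
  rw [← QuotientGroup.mk_mul, ← QuotientGroup.mk_mul, eq_comm, QuotientGroup.eq, ← hker]
  have hcm : ρ c * ρ a = ρ a * ρ c := hcomm.eq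
  rw [map_mul, map_mul, hcm, ← map_mul, ← map_mul, inv_mul_cancel, map_one]

end Ambient

section PSL

open Quadratic Matrix PSL2

/-- Elements of order `p` of `PSL₂` in odd characteristic `p` have the involution property. -/
theorem crit_psl2 {F : Type*} [Field F] {p : ℕ} [Fact p.Prime] [CharP F p] (hp : p ≠ 2)
    (x : Matrix.ProjectiveSpecialLinearGroup (Fin 2) F) (hx1 : x ≠ 1) (hx : x ^ p = 1) : Crit x := by
  obtain ⟨y, rfl⟩ := QuotientGroup.mk_surjective x
  obtain ⟨y', hy', hyy⟩ : ∃ y' : SL2 F, y' ^ p = 1 ∧ (y' : PSL2 F) = y := by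
    have h : y ^ p ∈ Subgroup.center (SL2 F) := (QuotientGroup.eq_one_iff _).1 hx
    rcases mem_center_iff'.1 h with h | h
    · exact ⟨y, h, rfl⟩
    · refine ⟨-y, ?_, ?_⟩
      · rw [Odd.neg_pow ((Fact.out : p.Prime).odd_of_ne_two hp), h, neg_neg]
      · rw [QuotientGroup.eq]
        refine mem_center_iff'.2 (Or.inr ?_)
        rw [inv_mul_eq_iff_eq_mul, mul_neg, mul_one, neg_neg]
  rw [← hyy] at hx1 ⊢
  clear hx hyy
  obtain ⟨h, t, ht⟩ := exists_conj_upperE_of_pow hy'
  refine Crit.of_conj ((h⁻¹ : SL2 F) : PSL2 F) ?_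
  have hU : ((h⁻¹ : SL2 F) : PSL2 F) * (y' : PSL2 F) * ((h⁻¹ : SL2 F) : PSL2 F)⁻¹ = (upperE t : PSL2 F) := by
    rw [← QuotientGroup.mk_inv, ← QuotientGroup.mk_mul, ← QuotientGroup.mk_mul, inv_inv, ht]
  rw [hU]
  have ht0 : t ≠ 0 := by
    rintro rfl
    refine hx1 ?_
    rw [upperE_zero, QuotientGroup.mk_one] at hU
    exact conj_eq_one_iff.1 hU
  let k : SL2 F := ⟨!![0, t; -t⁻¹, 0], by rw [Matrix.det_fin_two_of]; field_simp; ring⟩
  have hk : k.1 = !![0, t; -t⁻¹, 0] := rfl
  have hkk : k * k = -1 := by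
    apply Subtype.ext
    rw [Matrix.SpecialLinearGroup.coe_mul, hk, Matrix.SpecialLinearGroup.coe_neg,
      Matrix.SpecialLinearGroup.coe_one, Matrix.mul_fin_two, Matrix.one_fin_two]
    ext i j
    fin_cases i <;> fin_cases j <;> simp [ht0]
  have hsl : upperE t * (k * upperE t * k⁻¹) * upperE t = k := by
    apply Subtype.ext
    simp only [Matrix.SpecialLinearGroup.coe_mul, Matrix.SpecialLinearGroup.coe_inv, upperE_val, hk,
      Matrix.adjugate_fin_two_of, Matrix.mul_fin_two]
    ext i j
    fin_cases i <;> fin_cases j <;> simp [ht0]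
  refine ⟨(k : PSL2 F), (k : PSL2 F), ?_, ?_, ?_⟩
  · have e : (k : PSL2 F) = (upperE t : PSL2 F) * ((k : PSL2 F) * (upperE t : PSL2 F) * (k : PSL2 F)⁻¹) *
        (upperE t : PSL2 F) := by
      simp only [← QuotientGroup.mk_inv, ← QuotientGroup.mk_mul, hsl]
    nth_rewrite 3 [e]
    exact mul_mem (mul_mem (Subgroup.subset_closure (Set.mem_insert _ _))
      (Subgroup.subset_closure (Set.mem_insert_of_mem _ (Set.mem_singleton _))))
      (Subgroup.subset_closure (Set.mem_insert _ _))
  · rw [← QuotientGroup.mk_mul, hkk, QuotientGroup.eq_one_iff]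
    exact mem_center_iff'.2 (Or.inr rfl)
  · intro he
    rw [← QuotientGroup.mk_mul, ← QuotientGroup.mk_mul, QuotientGroup.eq, mem_center_iff'] at he
    rcases he with he | he <;> rw [inv_mul_eq_iff_eq_mul] at he
    · have e := congrFun (congrFun (congrArg Subtype.val he) 1) 1
      simp [hk, Matrix.mul_fin_two, upperE_val, ht0] at e
    · have e := congrFun (congrFun (congrArg Subtype.val he) 0) 1
      simp [hk, Matrix.mul_fin_two, upperE_val, ht0] at e
      have h20 : (2 : F) ≠ 0 := Ring.two_ne_zero (by rw [ringChar.eq F p]; exact hp)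
      exact h20 (mul_right_cancel₀ ht0 (by linear_combination e))

end PSL

end Cfsg.Agent.QuadPair
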