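import Cfsg.Agent.Lib.RankOne.GenInfinite
import Cfsg.Agent.Lib.PSL2.Soluble
import Cfsg.Agent.Lib.PGroup.Basic

/-!
`genPairR k α` for a finite dimensional algebra `k[α]`, `α` a unit:
* `genPairR_unipotents_of_field` : a field: all unitriangular matrices
* `exists_nonunit` : not a field: some `upR x` with `x ≠ 0` not a unit
-/

set_option autoImplicit false

namespace Cfsg.Agent.QuadPair

open Matrix
open scoped MatrixGroups

theorem commute_upR_one {R : Type*} [CommRing R] {g : SL(2, R)} (h : g * upR 1 = upR 1 * g) :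
    g.1 1 0 = 0 ∧ g.1 0 0 = g.1 1 1 ∧ g.1 0 0 ^ 2 = 1 := by
  have e : g.1 * !![1, 1; 0, 1] = !![1, 1; 0, 1] * g.1 := congrArg Subtype.val h
  have e00 := congrFun (congrFun e 0) 0
  have e01 := congrFun (congrFun e 0) 1
  simp [Matrix.mul_apply, Fin.sum_univ_two] at e00 e01
  have h10 : g.1 1 0 = 0 := by linear_combination e00
  have h11 : g.1 0 0 = g.1 1 1 := by linear_combination e01
  refine ⟨h10, h11, ?_⟩
  have := g.2
  rw [Matrix.det_fin_two, h10, mul_zero, sub_zero, ← h11] at this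
  rw [sq, this]

theorem eq_upR_of_commute {R : Type*} [CommRing R] {p : ℕ} [Fact p.Prime] [CharP R p] (h2 : IsUnit (2 : R))
    {g : SL(2, R)} (h : g * upR 1 = upR 1 * g) {j : ℕ} (hg : g ^ p ^ j = 1) : g = upR (g.1 0 1) := by
  obtain ⟨h10, h11, hsq⟩ := commute_upR_one h
  have hpow : ∀ n : ℕ, (g ^ n).1 1 0 = 0 ∧ (g ^ n).1 0 0 = g.1 0 0 ^ n := by
    intro n
    induction n with
    | zero => simp
    | succ n ih =>
      rw [pow_succ g, Matrix.SpecialLinearGroup.coe_mul]
      exact ⟨by rw [Matrix.mul_apply, Fin.sum_univ_two, ih.1, h10]; ring,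
        by rw [Matrix.mul_apply, Fin.sum_univ_two, ih.2, h10, pow_succ]; ring⟩
  have hnil : IsNilpotent (g.1 0 0 - 1) := ⟨p ^ j, by
    rw [sub_pow_char_pow, one_pow, ← (hpow _).2, hg]; simp⟩
  have hu : IsUnit (g.1 0 0 + 1) := by
    rw [show g.1 0 0 + 1 = 2 + (g.1 0 0 - 1) by ring]
    exact hnil.isUnit_add_left_of_commute h2 (Commute.all _ _)
  have h00 : g.1 0 0 = 1 := by
    rw [← sub_eq_zero]
    exact hu.mul_left_eq_zero.1 (by linear_combination hsq)
  apply Subtype.ext
  ext i j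
  fin_cases i <;> fin_cases j <;> simp [coe_upR, h10, h00, ← h11]

theorem eq_loR_of_commute {R : Type*} [CommRing R] {p : ℕ} [Fact p.Prime] [CharP R p] (h2 : IsUnit (2 : R))
    {α : R} (hα : IsUnit α) {g : SL(2, R)} (h : g * loR α = loR α * g) {j : ℕ} (hg : g ^ p ^ j = 1) :
    g = loR (g.1 1 0) := by
  have e : g.1 * !![1, 0; α, 1] = !![1, 0; α, 1] * g.1 := congrArg Subtype.val h
  have e00 := congrFun (congrFun e 0) 0
  have e10 := congrFun (congrFun e 1) 0
  simp [Matrix.mul_apply, Fin.sum_univ_two] at e00 e10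
  have h01 : g.1 0 1 = 0 := hα.mul_left_eq_zero.1 (by linear_combination e00)
  have h11 : g.1 0 0 = g.1 1 1 := hα.mul_left_cancel (by linear_combination -e10)
  have hpow : ∀ n : ℕ, (g ^ n).1 0 1 = 0 ∧ (g ^ n).1 0 0 = g.1 0 0 ^ n := by
    intro n
    induction n with
    | zero => simp
    | succ n ih =>
      rw [pow_succ g, Matrix.SpecialLinearGroup.coe_mul]
      exact ⟨by rw [Matrix.mul_apply, Fin.sum_univ_two, ih.1, h01]; ring,
        by rw [Matrix.mul_apply, Fin.sum_univ_two, ih.1, ih.2, pow_succ]; ring⟩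
  have hsq : g.1 0 0 ^ 2 = 1 := by
    have := g.2
    rw [Matrix.det_fin_two, h01, zero_mul, sub_zero, ← h11] at this
    rw [sq, this]
  have hnil : IsNilpotent (g.1 0 0 - 1) := ⟨p ^ j, by
    rw [sub_pow_char_pow, one_pow, ← (hpow _).2, hg]; simp⟩
  have hu : IsUnit (g.1 0 0 + 1) := by
    rw [show g.1 0 0 + 1 = 2 + (g.1 0 0 - 1) by ring]
    exact hnil.isUnit_add_left_of_commute h2 (Commute.all _ _)
  have h00 : g.1 0 0 = 1 := by
    rw [← sub_eq_zero]
    exact hu.mul_left_eq_zero.1 (by linear_combination hsq)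
  apply Subtype.ext
  ext i j
  fin_cases i <;> fin_cases j <;> simp [coe_loR, h01, h00, ← h11]

theorem upR_pow {R : Type*} [CommRing R] (t : R) (n : ℕ) : upR t ^ n = upR ((n : R) * t) := by
  induction n with
  | zero => simp [upR_zero]
  | succ n ih => rw [pow_succ, ih, upR_mul]; congr 1; push_cast; ring

theorem loR_pow {R : Type*} [CommRing R] (t : R) (n : ℕ) : loR t ^ n = loR ((n : R) * t) := by
  induction n with
  | zero => simp [loR_zero]
  | succ n ih => rw [pow_succ, ih, loR_mul]; congr 1; push_cast; ring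

theorem genPairR_eq_top_of_finite {k K : Type*} [Field k] [Field K] [Algebra k K] [Finite k] [Finite K]
    (hk2 : ringChar k ≠ 2) (hk3 : Nat.card k ≠ 3) {α : K} (hα0 : α ≠ 0)
    (hgen : Algebra.adjoin k ({α} : Set K) = ⊤) : genPairR k α = ⊤ := by
  rw [genPairR_eq]
  refine RankOne.genPair_eq_top_of_finite hk2 hk3 hα0 fun R hα hc => eq_top_iff.2 fun x _ => ?_
  have hx : x ∈ Algebra.adjoin k ({α} : Set K) := by rw [hgen]; trivial
  induction hx using Algebra.adjoin_induction with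
  | mem y hy => rw [Set.mem_singleton_iff] at hy; exact hy ▸ hα
  | algebraMap c => exact hc c
  | add x y _ _ hx hy => exact add_mem (hx trivial) (hy trivial)
  | mul x y _ _ hx hy => exact mul_mem (hx trivial) (hy trivial)

theorem genPairR_unipotents_of_field {k K : Type*} [Field k] [Field K] [Algebra k K] (pb : PowerBasis k K)
    (hk2 : ringChar k ≠ 2) (hk3 : Nat.card k ≠ 3) (h0 : pb.gen ≠ 0) : genPairR k pb.gen = ⊤ := by
  cases finite_or_infinite k
  · haveI := pb.finite
    haveI : Finite K := Module.finite_of_finite k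
    exact genPairR_eq_top_of_finite hk2 hk3 h0 pb.adjoin_gen_eq_top
  · rw [genPairR_eq]
    exact RankOne.Dickson.genPair_eq_top_of_infinite pb (Ring.two_ne_zero hk2) h0

/-- The centralizer argument in a finite `SL₂`: a `p`-subgroup containing `upR 1` is upper unitriangular. -/
theorem eq_upR_of_pgroup {K : Type*} [Field K] [Finite K] {p : ℕ} [Fact p.Prime] [CharP K p] (h2 : (2 : K) ≠ 0)
    {S : Subgroup SL(2, K)} (hS : IsPGroup p S) (h1 : upR 1 ∈ S) {g : SL(2, K)} (hg : g ∈ S) :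
    g = upR (g.1 0 1) := by
  have hne : (⊤ : Subgroup S) ≠ ⊥ := fun e => by
    have := (Subgroup.eq_bot_iff_forall _).1 e ⟨upR 1, h1⟩ trivial
    exact one_ne_zero (upR_inj ((congrArg Subtype.val this).trans upR_zero.symm))
  have hc := PGroup.inf_center_ne_bot hS hne
  rw [top_inf_eq] at hc
  obtain ⟨z, hz, hz1⟩ := (Subgroup.bot_or_exists_ne_one _).resolve_left hc
  have hz' : (z : SL(2, K)) * upR 1 = upR 1 * (z : SL(2, K)) :=
    congrArg Subtype.val (Subgroup.mem_center_iff.1 hz (⟨upR 1, h1⟩ : S)).symm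
  obtain ⟨j, hj⟩ := hS z
  have ez := eq_upR_of_commute (isUnit_iff_ne_zero.2 h2) hz' (by
    rw [← Subgroup.coe_pow, hj, Subgroup.coe_one] : (z : SL(2, K)) ^ p ^ j = 1)
  set x := (z : SL(2, K)).1 0 1
  have hx : x ≠ 0 := fun e => hz1 (Subtype.ext (by rw [ez, e, upR_zero]; rfl))
  have hgz : g * upR x = upR x * g := by
    rw [← ez]; exact congrArg Subtype.val (Subgroup.mem_center_iff.1 hz ⟨g, hg⟩)
  have e : g.1 * !![1, x; 0, 1] = !![1, x; 0, 1] * g.1 := congrArg Subtype.val hgz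
  have e00 := congrFun (congrFun e 0) 0
  have e01 := congrFun (congrFun e 0) 1
  simp [Matrix.mul_apply, Fin.sum_univ_two, hx] at e00
  simp [Matrix.mul_apply, Fin.sum_univ_two] at e01
  have h11 : g.1 0 0 = g.1 1 1 := mul_right_cancel₀ hx (by linear_combination e01)
  obtain ⟨i, hi⟩ := hS ⟨g, hg⟩
  refine eq_upR_of_commute (isUnit_iff_ne_zero.2 h2) ?_ (congrArg Subtype.val hi)
  apply Subtype.ext
  ext a b
  fin_cases a <;> fin_cases b <;> simp [coe_upR, Matrix.mul_apply, Fin.sum_univ_two, e00, h11, add_comm]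

theorem two_unit {k L : Type*} [Field k] [CommRing L] [Algebra k L] (h2 : (2 : k) ≠ 0) : IsUnit (2 : L) := by
  rw [← map_ofNat (algebraMap k L) 2]; exact (isUnit_iff_ne_zero.2 h2).map _

theorem scalar_of_sq {R : Type*} [CommRing R] (h2 : IsUnit (2 : R)) {n : SL(2, R)} (hn : n * n = 1) :
    n.1 0 1 = 0 ∧ n.1 1 0 = 0 ∧ n.1 0 0 = n.1 1 1 := by
  have e : n = n⁻¹ := (inv_eq_of_mul_eq_one_right hn).symm
  have e' : n.1 = n.1.adjugate := (congrArg Subtype.val e).trans (Matrix.SpecialLinearGroup.coe_inv n)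
  rw [Matrix.adjugate_fin_two] at e'
  have e01 : n.1 0 1 = -n.1 0 1 := by simpa using congrFun (congrFun e' 0) 1
  have e10 : n.1 1 0 = -n.1 1 0 := by simpa using congrFun (congrFun e' 1) 0
  exact ⟨h2.mul_left_eq_zero.1 (by linear_combination e01), h2.mul_left_eq_zero.1 (by linear_combination e10),
    by simpa using congrFun (congrFun e' 0) 0⟩

theorem central_image {F' : Type*} [Field F'] [Finite F'] {p : ℕ} [Fact p.Prime] [CharP F' p]
    (h4 : 4 ≤ Nat.card F') {Y : Type*} [Group Y] (f : Y →* SL(2, F')) (hf : Function.Surjective f)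
    (N : Subgroup Y) [N.Normal] (hp : ¬ p ∣ Nat.card N) (n : Y) (hn : n ∈ N) :
    (f n).1 0 1 = 0 ∧ (f n).1 1 0 = 0 ∧ (f n).1 0 0 = (f n).1 1 1 ∧ (f n).1 0 0 * (f n).1 0 0 = 1 := by
  let r : Y →* PSL2.PSL2 F' := (QuotientGroup.mk' (Subgroup.center SL(2, F'))).comp f
  have hr : Function.Surjective r := (QuotientGroup.mk'_surjective _).comp hf
  haveI := PSL2.isSimpleGroup_psl h4
  have hN : (N.map r).Normal := Subgroup.Normal.map inferInstance r hr
  have hbot : N.map r = ⊥ := by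
    refine hN.eq_bot_or_eq_top.resolve_right fun h => hp ?_
    have hd : p ∣ Nat.card (⊤ : Subgroup (PSL2.PSL2 F')) := by
      rw [Subgroup.card_top]; exact PSL2.dvd_card_psl p
    rw [← h] at hd
    exact hd.trans (Subgroup.card_map_dvd (H := N) r)
  have hz : f n ∈ Subgroup.center SL(2, F') := by
    have : r n ∈ N.map r := Subgroup.mem_map_of_mem r hn
    rw [hbot, Subgroup.mem_bot] at this
    exact (QuotientGroup.eq_one_iff _).1 this
  rcases PSL2.mem_center_iff'.1 hz with h | h <;> rw [h] <;> simp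

theorem commute_of_normal_coprime {k L : Type*} [Field k] [Finite k] [CommRing L] [Nontrivial L] [Algebra k L]
    [Finite L] (hk2 : ringChar k ≠ 2) (hk3 : Nat.card k ≠ 3) (h5 : 4 ≤ Nat.card k) {p : ℕ} [Fact p.Prime]
    [CharP k p] {α : L} (hα : IsUnit α) (hgen : Algebra.adjoin k ({α} : Set L) = ⊤)
    (N : Subgroup ↥(genPairR k α)) [N.Normal] (hp : ¬ p ∣ Nat.card N) :
    ∀ n ∈ N, ∀ y : ↥(genPairR k α), n * y = y * n := by
  haveI : CharP L p := charP_of_injective_ringHom (algebraMap k L).injective p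
  have h2 : IsUnit (2 : L) := two_unit (Ring.two_ne_zero hk2)
  let X := genPairR k α
  have hsc : ∀ n : SL(2, L), n ∈ X → (∃ n' : X, (n' : SL(2, L)) = n ∧ n' ∈ N) →
      ∀ (m' : Ideal L), m'.IsMaximal → n.1 0 0 * n.1 0 0 - 1 ∈ m' ∧ n.1 0 1 ∈ m' ∧ n.1 1 0 ∈ m' ∧
        n.1 0 0 - n.1 1 1 ∈ m' := by
    rintro _ - ⟨n, rfl, hn⟩ m' hm'
    let F' := L ⧸ m'
    letI : Field F' := Ideal.Quotient.field m'
    haveI : Finite F' := Finite.of_surjective _ Ideal.Quotient.mk_surjective
    let q' : L →ₐ[k] F' := Ideal.Quotient.mkₐ k m'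
    haveI : CharP F' p := charP_of_injective_ringHom (algebraMap k F').injective p
    have h4' : 4 ≤ Nat.card F' := h5.trans (Nat.card_le_card_of_injective _ (algebraMap k F').injective)
    let π' : SL(2, L) →* SL(2, F') := Matrix.SpecialLinearGroup.map (q' : L →+* F')
    have htop' : X.map π' = ⊤ := by
      refine (genPairR_map q' α).trans (genPairR_eq_top_of_finite hk2 hk3 (hα.map q').ne_zero ?_)
      rw [show ({q' α} : Set F') = q' '' {α} by rw [Set.image_singleton], ← AlgHom.map_adjoin, hgen,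
        Algebra.map_top, (AlgHom.range_eq_top q').2 Ideal.Quotient.mk_surjective]
    let f' : X →* SL(2, F') := π'.comp X.subtype
    have hf' : Function.Surjective f' := fun y => by
      obtain ⟨x, hx, e⟩ := htop'.ge (Subgroup.mem_top y)
      exact ⟨⟨x, hx⟩, e⟩
    obtain ⟨a01, a10, a11, a00⟩ := central_image h4' f' hf' N hp n hn
    rw [← Ideal.Quotient.eq_zero_iff_mem, ← Ideal.Quotient.eq_zero_iff_mem, ← Ideal.Quotient.eq_zero_iff_mem,
      ← Ideal.Quotient.eq_zero_iff_mem]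
    change q' ((n : SL(2, L)).1 0 1) = 0 at a01
    change q' ((n : SL(2, L)).1 1 0) = 0 at a10
    change q' ((n : SL(2, L)).1 0 0) = q' ((n : SL(2, L)).1 1 1) at a11
    change q' ((n : SL(2, L)).1 0 0) * q' ((n : SL(2, L)).1 0 0) = 1 at a00
    refine ⟨?_, a01, a10, ?_⟩
    · change q' _ = 0
      rw [map_sub, map_mul, map_one, a00, sub_self]
    · change q' _ = 0
      rw [map_sub, a11, sub_self]
  intro n hn y
  have hrad : ∀ x : L, (∀ m' : Ideal L, m'.IsMaximal → x ∈ m') → IsNilpotent x := fun x hx => by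
    haveI : IsArtinianRing L := inferInstance
    rw [← mem_nilradical, ← Ring.jacobson_eq_nilradical_of_krullDimLE_zero, Ring.jacobson_eq_sInf_isMaximal]
    exact Ideal.mem_sInf.2 fun {J} hJ => hx J hJ
  have hN := hsc n n.2 ⟨n, rfl, hn⟩
  -- `n * n` is unipotent, hence of `p`-power order
  have hnn : ∃ j, (n * n) ^ p ^ j = 1 := by
    set A : Matrix (Fin 2) (Fin 2) L := (n : SL(2, L)).1
    have hz : ∀ i j, IsNilpotent ((A * A - 1) i j) := by
      have b0 := hrad _ fun m' hm' => (hN m' hm').1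
      have b1 := hrad _ fun m' hm' => (hN m' hm').2.1
      have b2 := hrad _ fun m' hm' => (hN m' hm').2.2.1
      have b3 := hrad _ fun m' hm' => (hN m' hm').2.2.2
      simp only [← mem_nilradical] at b0 b1 b2 b3 ⊢
      intro i j
      fin_cases i <;> fin_cases j <;> simp [Matrix.mul_apply, Fin.sum_univ_two]
      · have := add_mem b0 (Ideal.mul_mem_left _ (A 0 1) b2)
        convert this using 1; ring
      · have := Ideal.mul_mem_left _ (A 0 0 + A 1 1) b1
        convert this using 1; ring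
      · have := Ideal.mul_mem_left _ (A 0 0 + A 1 1) b2
        convert this using 1; ring
      · have := add_mem (sub_mem b0 (Ideal.mul_mem_left _ (A 0 0 + A 1 1) b3)) (Ideal.mul_mem_left _ (A 1 0) b1)
        convert this using 1; ring
    have hI : IsNilpotent (A * A - 1) := by
      set J : Ideal L := Ideal.span (Set.range fun ij : Fin 2 × Fin 2 => (A * A - 1) ij.1 ij.2)
      obtain ⟨e, he⟩ : IsNilpotent J := by
        rw [Ideal.FG.isNilpotent_iff_le_nilradical (Submodule.fg_span (Set.finite_range _))]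
        exact Ideal.span_le.2 (by rintro _ ⟨ij, rfl⟩; exact mem_nilradical.2 (hz _ _))
      have hpow : ∀ (l : ℕ) (i j : Fin 2), ((A * A - 1) ^ l) i j ∈ J ^ l := by
        intro l
        induction l with
        | zero => intro i j; simp
        | succ l ih =>
          intro i j
          rw [show (A * A - 1) ^ (l + 1) = (A * A - 1) ^ l * (A * A - 1) from pow_succ _ _, pow_succ]
          rw [Matrix.mul_apply]
          exact Ideal.sum_mem _ fun t _ => Ideal.mul_mem_mul (ih i t)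
            (show (A * A - 1) t j ∈ J from Ideal.subset_span ⟨(t, j), rfl⟩)
      exact ⟨e, Matrix.ext fun i j => by simpa [he] using hpow e i j⟩
    obtain ⟨e, hN⟩ := hI
    haveI : CharP (Matrix (Fin 2) (Fin 2) L) p := inferInstance
    refine ⟨e, Subtype.ext (Subtype.ext ?_)⟩
    have hNp : e ≤ p ^ e := (Nat.lt_pow_self (Fact.out : p.Prime).one_lt).le
    have := pow_eq_zero_of_le hNp hN
    rw [sub_pow_char_pow_of_commute _ _ (Commute.one_right _), one_pow, sub_eq_zero] at this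
    simpa using this
  have h1 : n * n = 1 := by
    obtain ⟨j, hj⟩ := hnn
    have hd : orderOf (n * n) ∣ p ^ j := orderOf_dvd_of_pow_eq_one hj
    have hd2 : orderOf (n * n) ∣ Nat.card N := by
      have := orderOf_dvd_natCard (⟨n * n, mul_mem hn hn⟩ : N)
      rwa [← Subgroup.orderOf_coe] at this
    have hc : Nat.Coprime (p ^ j) (Nat.card N) :=
      ((Fact.out : p.Prime).coprime_iff_not_dvd.2 hp).pow_left j
    exact orderOf_eq_one_iff.1 (Nat.eq_one_of_dvd_coprimes hc hd hd2)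
  obtain ⟨a, b, c⟩ := scalar_of_sq h2 (congrArg Subtype.val h1)
  apply Subtype.ext
  apply Subtype.ext
  ext i j
  fin_cases i <;> fin_cases j <;> simp [Matrix.mul_apply, Fin.sum_univ_two, a, b, c] <;> ring

theorem exists_fixed_of_dvd {X : Type*} [Group X] [Finite X] {p : ℕ} [Fact p.Prime] {u : X} (hu : u ^ p = 1)
    (K : Subgroup X) [K.Normal] (hp : p ∣ Nat.card K) :
    ∃ z ∈ K, z ≠ 1 ∧ z * u = u * z ∧ ∃ j, z ^ p ^ j = 1 := by
  have hu1 : IsPGroup p (Subgroup.zpowers u) :=
    IsPGroup.of_card (n := (Nat.card (Subgroup.zpowers u)).factorization p) (by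
      rw [Nat.card_zpowers]
      rcases (Nat.dvd_prime Fact.out).1 (orderOf_dvd_of_pow_eq_one hu) with h | h <;> rw [h] <;>
        simp [(Fact.out : p.Prime).factorization_self])
  obtain ⟨S, hS⟩ := hu1.exists_le_sylow
  have huS : u ∈ (S : Subgroup X) := hS (Subgroup.mem_zpowers u)
  haveI : (K.subgroupOf (S : Subgroup X)).Normal := inferInstance
  have hne : K.subgroupOf (S : Subgroup X) ≠ ⊥ := by
    intro e
    rw [Subgroup.subgroupOf_eq_bot, disjoint_iff] at e
    obtain ⟨x, hx⟩ := exists_prime_orderOf_dvd_card' (G := K) p hp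
    have hx1 : IsPGroup p (Subgroup.zpowers (x : X)) :=
      IsPGroup.of_card (n := 1) (by rw [Nat.card_zpowers, Subgroup.orderOf_coe, hx, pow_one])
    obtain ⟨S', hS'⟩ := hx1.exists_le_sylow
    obtain ⟨g, hg⟩ := MulAction.exists_smul_eq X S' S
    have h1 : g * x * g⁻¹ ∈ (S : Subgroup X) := by
      rw [← hg, Sylow.coe_subgroup_smul]
      exact ⟨x, hS' (Subgroup.mem_zpowers _), rfl⟩
    have h2 : g * x * g⁻¹ ∈ K := Subgroup.Normal.conj_mem ‹K.Normal› _ x.2 g
    have h3 : g * x * g⁻¹ = 1 := by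
      have := Subgroup.mem_inf.2 ⟨h2, h1⟩
      rwa [e, Subgroup.mem_bot] at this
    rw [conj_eq_one_iff] at h3
    rw [← Subgroup.orderOf_coe, h3, orderOf_one] at hx
    exact (Fact.out : p.Prime).ne_one hx.symm
  obtain ⟨z, ⟨hz, hzc⟩, hz1⟩ :=
    (Subgroup.bot_or_exists_ne_one _).resolve_left (PGroup.inf_center_ne_bot S.isPGroup' hne)
  obtain ⟨j, hj⟩ := S.isPGroup' z
  exact ⟨z, hz, fun e => hz1 (Subtype.ext e),
    congrArg Subtype.val (Subgroup.mem_center_iff.1 hzc ⟨u, huS⟩).symm, j, congrArg Subtype.val hj⟩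

theorem exists_lift_of_coprime {X Y : Type*} [Group X] [Finite X] [Group Y] (f : X →* Y) {p : ℕ} [Fact p.Prime]
    (N : Subgroup X) (hp : ¬ p ∣ Nat.card ↥(f.ker ⊓ N)) (y : Y) (hy : y ^ p = 1) (hmem : y ∈ N.map f) :
    ∃ z ∈ N, f z = y ∧ z ^ p = 1 := by
  obtain ⟨z0, hz0N, hz0⟩ := hmem
  set n := Nat.card ↥(f.ker ⊓ N)
  have hcop : Nat.Coprime n p := ((Fact.out : p.Prime).coprime_iff_not_dvd.2 hp).symm
  obtain ⟨e, -, he⟩ := Nat.exists_mul_mod_eq_one_of_coprime hcop (Fact.out : p.Prime).one_lt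
  refine ⟨z0 ^ (n * e), pow_mem hz0N _, ?_, ?_⟩
  · rw [map_pow, hz0, ← Nat.mod_add_div (n * e) p, he, pow_add, pow_mul, hy, one_pow, pow_one, mul_one]
  · have hk : z0 ^ p ∈ f.ker ⊓ N :=
      Subgroup.mem_inf.2 ⟨MonoidHom.mem_ker.2 (by rw [map_pow, hz0, hy]), pow_mem hz0N _⟩
    have : (z0 ^ p) ^ n = 1 :=
      congrArg Subtype.val (pow_card_eq_one' (G := ↥(f.ker ⊓ N)) (x := ⟨_, hk⟩))
    rw [← pow_mul, show n * e * p = p * n * e by ring, pow_mul, pow_mul, this, one_pow]

theorem eq_of_same_image {X Y : Type*} [Group X] [Finite X] [Group Y] (f : X →* Y) {p : ℕ} [Fact p.Prime]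
    (N : Subgroup X) (hp : ¬ p ∣ Nat.card ↥(f.ker ⊓ N))
    (hcent : ∀ n ∈ f.ker ⊓ N, ∀ y : X, n * y = y * n) {x y : X} (hxy : x⁻¹ * y ∈ N) (e : f x = f y)
    {j : ℕ} (hx : x ^ p ^ j = 1) (hy : y ^ p ^ j = 1) : x = y := by
  have hn : x⁻¹ * y ∈ f.ker ⊓ N :=
    Subgroup.mem_inf.2 ⟨MonoidHom.mem_ker.2 (by rw [map_mul, map_inv, e, inv_mul_cancel]), hxy⟩
  have hc : Commute (x⁻¹ * y) x := hcent _ hn x
  have h1 : (x⁻¹ * y) ^ p ^ j = 1 := by
    have hxy : x * (x⁻¹ * y) = y := mul_inv_cancel_left x y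
    have := hc.symm.mul_pow (p ^ j)
    rw [hxy, hy, hx, one_mul] at this
    exact this.symm
  have h2 : x⁻¹ * y = 1 := by
    have hd2 : orderOf (x⁻¹ * y) ∣ Nat.card ↥(f.ker ⊓ N) := by
      have := orderOf_dvd_natCard (⟨_, hn⟩ : ↥(f.ker ⊓ N))
      rwa [← Subgroup.orderOf_coe] at this
    exact orderOf_eq_one_iff.1 (Nat.eq_one_of_dvd_coprimes
      (((Fact.out : p.Prime).coprime_iff_not_dvd.2 hp).pow_left j) (orderOf_dvd_of_pow_eq_one h1) hd2)
  rw [← mul_inv_cancel_left x y, h2, mul_one]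

set_option maxHeartbeats 1000000 in
theorem exists_nonunit_in {k L : Type*} [Field k] [Finite k] [CommRing L] [Nontrivial L] [Algebra k L]
    [Finite L] (hk2 : ringChar k ≠ 2) (hk3 : Nat.card k ≠ 3) {α : L} (hα : IsUnit α)
    (hgen : Algebra.adjoin k ({α} : Set L) = ⊤) (hnf : ¬ IsField L)
    (N : Subgroup ↥(genPairR k α)) [N.Normal]
    (hN : ∀ m : Ideal L, m.IsMaximal →
      (N.map (genPairR k α).subtype).map (Matrix.SpecialLinearGroup.map (Ideal.Quotient.mk m)) = ⊤) :
    ∃ (x : L) (hx : upR x ∈ genPairR k α), x ≠ 0 ∧ ¬ IsUnit x ∧ (⟨upR x, hx⟩ : ↥(genPairR k α)) ∈ N := by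
  by_contra hcon
  set p := ringChar k
  haveI : Fact p.Prime := ⟨CharP.char_is_prime k p⟩
  haveI : CharP L p := charP_of_injective_ringHom (algebraMap k L).injective p
  have h2k : (2 : k) ≠ 0 := Ring.two_ne_zero hk2
  have h2 : IsUnit (2 : L) := two_unit h2k
  obtain ⟨m, hm⟩ := Ideal.exists_maximal L
  let F := L ⧸ m
  letI : Field F := Ideal.Quotient.field m
  haveI : Finite F := Finite.of_surjective _ Ideal.Quotient.mk_surjective
  let q : L →ₐ[k] F := Ideal.Quotient.mkₐ k m
  haveI : CharP F p := charP_of_injective_ringHom (algebraMap k F).injective p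
  have h2F : (2 : F) ≠ 0 := (two_unit h2k).ne_zero
  have h5 : 4 ≤ Nat.card k := by
    have h1 := Finite.one_lt_card (α := k)
    by_contra h
    have : Nat.card k = 2 := by omega
    obtain ⟨e, -, hc⟩ := @FiniteField.card k _ (Fintype.ofFinite k) p _
    rw [Fintype.card_eq_nat_card, this] at hc
    exact hk2 ((Nat.prime_dvd_prime_iff_eq Fact.out Nat.prime_two).1 (hc ▸ dvd_pow_self p e.pos.ne'))
  have hnil : ∀ (x : L) (hX : upR x ∈ genPairR k α), x ≠ 0 → (⟨upR x, hX⟩ : ↥(genPairR k α)) ∈ N → IsUnit x :=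
    fun x hX hx hN => by by_contra hu; exact hcon ⟨x, hX, hx, hu, hN⟩
  let X := genPairR k α
  let π : SL(2, L) →* SL(2, F) := Matrix.SpecialLinearGroup.map (q : L →+* F)
  have hπtop : X.map π = ⊤ := by
    refine (genPairR_map q α).trans (genPairR_eq_top_of_finite hk2 hk3 (hα.map q).ne_zero ?_)
    rw [show ({q α} : Set F) = q '' {α} by rw [Set.image_singleton], ← AlgHom.map_adjoin, hgen,
      Algebra.map_top, (AlgHom.range_eq_top q).2 Ideal.Quotient.mk_surjective]
  let f : X →* SL(2, F) := π.comp X.subtype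
  have hf : Function.Surjective f := fun y => by
    obtain ⟨x, hx, e⟩ := hπtop.ge (Subgroup.mem_top y)
    exact ⟨⟨x, hx⟩, e⟩
  let u1 : X := ⟨upR 1, by simpa using upR_mem_genPair α (1 : k)⟩
  have hu1p : u1 ^ p = 1 := Subtype.ext (by simp [u1, upR_pow, CharP.cast_eq_zero, upR_zero])
  have hcomm_up : ∀ g : X, g * u1 = u1 * g → (∃ j, g ^ p ^ j = 1) → (g : SL(2, L)) = upR ((g : SL(2, L)).1 0 1) :=
    fun g hg ⟨j, hj⟩ => eq_upR_of_commute h2 (congrArg Subtype.val hg) (congrArg Subtype.val hj : _)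
  have hfu : ∀ (x : L) (hx : upR x ∈ X), f ⟨upR x, hx⟩ = upR (q x) := fun x _ => map_upR (q : L →+* F) x
  have hfl : ∀ (x : L) (hx : loR x ∈ X), f ⟨loR x, hx⟩ = loR (q x) := fun x _ => map_loR (q : L →+* F) x
  haveI : CharP k p := ringChar.charP k
  have hfix : ∀ (K : Subgroup X) [K.Normal], K ≤ f.ker → p ∣ Nat.card K →
      ∃ (v : L) (hv : upR v ∈ X), v ≠ 0 ∧ q v = 0 ∧ (⟨upR v, hv⟩ : X) ∈ K := by
    intro K _ hK hp
    obtain ⟨z, hz, hz1, hzu, hzp⟩ := exists_fixed_of_dvd hu1p K hp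
    have e := hcomm_up z hzu hzp
    have hzX : upR ((z : SL(2, L)).1 0 1) ∈ X := e ▸ z.2
    have ez : z = ⟨upR ((z : SL(2, L)).1 0 1), hzX⟩ := Subtype.ext e
    refine ⟨_, hzX, fun h => hz1 (Subtype.ext (by rw [e, h, upR_zero]; rfl)), ?_, ez ▸ hz⟩
    have := hK hz
    rw [MonoidHom.mem_ker, ez, hfu, ← upR_zero] at this
    exact upR_inj this
  by_cases hpN : p ∣ Nat.card ↥(f.ker ⊓ N)
  · obtain ⟨v, hv, hv0, hqv, hvN⟩ := hfix (f.ker ⊓ N) inf_le_left hpN
    exact ((hnil v hv hv0 hvN.2).map q).ne_zero hqv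
  have hcentN : ∀ n ∈ f.ker ⊓ N, ∀ y : X, n * y = y * n :=
    commute_of_normal_coprime hk2 hk3 h5 hα hgen (f.ker ⊓ N) hpN
  by_cases hp : p ∣ Nat.card f.ker
  · -- a `p`-element of the kernel commutes with the `p`-elements of `N`
    obtain ⟨v, hv, hv0, hqv, -⟩ := hfix f.ker le_rfl hp
    have hfv : f ⟨upR v, hv⟩ = 1 := by rw [hfu, hqv, upR_zero]
    let I : Ideal L := LinearMap.ker (LinearMap.mulRight L v)
    have hI : I ≠ ⊤ := fun h => hv0 (by
      have : (1 : L) ∈ I := h ▸ Submodule.mem_top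
      simpa [I, LinearMap.mem_ker] using this)
    obtain ⟨m', hm', hle⟩ := Ideal.exists_le_maximal I hI
    let F' := L ⧸ m'
    letI : Field F' := Ideal.Quotient.field m'
    haveI : Finite F' := Finite.of_surjective _ Ideal.Quotient.mk_surjective
    let q' : L →ₐ[k] F' := Ideal.Quotient.mkₐ k m'
    haveI : CharP F' p := charP_of_injective_ringHom (algebraMap k F').injective p
    let g' : ↥N →* SL(2, F') :=
      (Matrix.SpecialLinearGroup.map (q' : L →+* F')).comp (X.subtype.comp N.subtype)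
    have hg' : Function.Surjective g' := fun y => by
      obtain ⟨_, ⟨w, hwN, rfl⟩, e⟩ := (hN m' hm').ge (Subgroup.mem_top y)
      exact ⟨⟨w, hwN⟩, e⟩
    have hLp : IsPGroup p (Subgroup.zpowers (loR (1 : F'))) :=
      IsPGroup.of_card (n := (Nat.card (Subgroup.zpowers (loR (1 : F')))).factorization p) (by
        have hp : loR (1 : F') ^ p = 1 := by simp [loR_pow, CharP.cast_eq_zero, loR_zero]
        rw [Nat.card_zpowers]
        rcases (Nat.dvd_prime Fact.out).1 (orderOf_dvd_of_pow_eq_one hp) with h | h <;> rw [h] <;>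
          simp [(Fact.out : p.Prime).factorization_self])
    obtain ⟨S', hS'⟩ := hLp.exists_le_sylow
    obtain ⟨S, hS⟩ := Sylow.mapSurjective_surjective hg' p S'
    have h1 : loR (1 : F') ∈ (S.mapSurjective hg' : Subgroup SL(2, F')) := hS ▸ hS' (Subgroup.mem_zpowers _)
    obtain ⟨y, hyS, hy⟩ := h1
    obtain ⟨j, hj⟩ := S.isPGroup' ⟨y, hyS⟩
    have hyp : (y : X) ^ p ^ j = 1 := congrArg Subtype.val (congrArg Subtype.val hj)
    have hc : (⟨upR v, hv⟩ : X) * y * (⟨upR v, hv⟩ : X)⁻¹ = y := by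
      refine eq_of_same_image f N hpN hcentN ?_ (by simp [hfv]) (j := j) ?_ hyp
      · exact mul_mem (inv_mem (Subgroup.Normal.conj_mem ‹N.Normal› _ y.2 _)) y.2
      · rw [conj_pow, hyp, mul_one, mul_inv_cancel]
    have e := congrArg (fun x : X => (x : SL(2, L)).1) (mul_inv_eq_iff_eq_mul.1 hc)
    have e00 := congrFun (congrFun e 0) 0
    simp [coe_upR, Matrix.mul_apply, Fin.sum_univ_two] at e00
    have hmem : ((y : X) : SL(2, L)).1 1 0 ∈ I := by
      simp only [I, LinearMap.mem_ker, LinearMap.mulRight_apply]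
      linear_combination e00
    have hqy : q' (((y : X) : SL(2, L)).1 1 0) = 1 := by
      simpa [g', coe_loR] using congrArg (fun g : SL(2, F') => g.1 1 0) hy
    rw [show q' (((y : X) : SL(2, L)).1 1 0) = 0 from Ideal.Quotient.eq_zero_iff_mem.2 (hle hmem)] at hqy
    exact zero_ne_one hqy
  · -- the kernel is central
    have hcent : ∀ n ∈ f.ker, ∀ y : X, n * y = y * n :=
      commute_of_normal_coprime hk2 hk3 h5 hα hgen f.ker hp
    have hp' : ¬ p ∣ Nat.card ↥(f.ker ⊓ (⊤ : Subgroup X)) := by rwa [inf_top_eq]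
    -- the `p`-elements over a lower unitriangular matrix form a lift
    have hinjp : ∀ x y : X, f x = f y → x ^ p = 1 → y ^ p = 1 → x = y := fun x y e hx hy =>
      eq_of_same_image f ⊤ hp' (by rw [inf_top_eq]; exact hcent) trivial e (j := 1)
        (by rwa [pow_one]) (by rwa [pow_one])
    have hlift : ∀ y : SL(2, F), y ^ p = 1 → ∃ z : X, f z = y ∧ z ^ p = 1 := fun y hy => by
      obtain ⟨z, -, h⟩ := exists_lift_of_coprime f ⊤ hp' y hy (by
        rw [Subgroup.map_top_of_surjective f hf]; trivial)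
      exact ⟨z, h⟩
    have hl1 : loR α ∈ X := by simpa using loR_mem_genPair α (1 : k)
    let l1 : X := ⟨loR α, hl1⟩
    have hl1p : l1 ^ p = 1 := Subtype.ext (by simp [l1, loR_pow, CharP.cast_eq_zero, loR_zero])
    have hι : ∀ t : F, ∃ x : L, upR x ∈ X ∧ q x = t := by
      intro t
      obtain ⟨z, hz, hzp⟩ := hlift (upR t) (by rw [upR_pow, CharP.cast_eq_zero, zero_mul, upR_zero])
      have hc : z * u1 * z⁻¹ = u1 := hinjp _ _ (by
        rw [map_mul, map_mul, map_inv, hz, hfu, upR_inv, upR_mul, upR_mul, add_neg_cancel_comm])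
        (by rw [conj_pow, hu1p, mul_one, mul_inv_cancel]) hu1p
      have e := hcomm_up z (mul_inv_eq_iff_eq_mul.1 hc) ⟨1, by rw [pow_one, hzp]⟩
      refine ⟨_, e ▸ z.2, upR_inj ?_⟩
      rw [← hz, ← hfu _ (e ▸ z.2)]
      exact congrArg f (Subtype.ext e).symm
    have hκ : ∀ t : F, ∃ y : L, loR y ∈ X ∧ q y = t := by
      intro t
      obtain ⟨z, hz, hzp⟩ := hlift (loR t) (by rw [loR_pow, CharP.cast_eq_zero, zero_mul, loR_zero])
      have hc : z * l1 * z⁻¹ = l1 := hinjp _ _ (by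
        rw [map_mul, map_mul, map_inv, hz, hfl, loR_inv, loR_mul, loR_mul, add_neg_cancel_comm])
        (by rw [conj_pow, hl1p, mul_one, mul_inv_cancel]) hl1p
      have e := eq_loR_of_commute h2 hα (congrArg Subtype.val (mul_inv_eq_iff_eq_mul.1 hc))
        (j := 1) (p := p) (by rw [pow_one]; exact congrArg Subtype.val hzp)
      refine ⟨_, e ▸ z.2, loR_inj ?_⟩
      rw [← hz, ← hfl _ (e ▸ z.2)]
      exact congrArg f (Subtype.ext e).symm
    choose ι hιX hιq using hι
    choose κ hκX hκq using hκ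
    have hUp : ∀ (x : L) (hx : upR x ∈ X), (⟨upR x, hx⟩ : X) ^ p = 1 := fun x _ =>
      Subtype.ext (by simp [upR_pow, CharP.cast_eq_zero, upR_zero])
    have hLp : ∀ (x : L) (hx : loR x ∈ X), (⟨loR x, hx⟩ : X) ^ p = 1 := fun x _ =>
      Subtype.ext (by simp [loR_pow, CharP.cast_eq_zero, loR_zero])
    have huniq : ∀ x : L, upR x ∈ X → x = ι (q x) := fun x hx => upR_inj (congrArg Subtype.val
      (hinjp ⟨upR x, hx⟩ ⟨_, hιX (q x)⟩ (by rw [hfu, hfu, hιq]) (hUp _ _) (hUp _ _)))
    have huniqL : ∀ x : L, loR x ∈ X → x = κ (q x) := fun x hx => loR_inj (congrArg Subtype.val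
      (hinjp ⟨loR x, hx⟩ ⟨_, hκX (q x)⟩ (by rw [hfl, hfl, hκq]) (hLp _ _) (hLp _ _)))
    have hadd : ∀ s t, ι (s + t) = ι s + ι t := fun s t => by
      have := huniq (ι s + ι t) (by rw [← upR_mul]; exact mul_mem (hιX s) (hιX t))
      rw [map_add, hιq, hιq] at this; exact this.symm
    have hneg : ∀ s, ι (-s) = -ι s := fun s => by
      have := huniq (-ι s) (by rw [← upR_inv]; exact inv_mem (hιX s))
      rw [map_neg, hιq] at this; exact this.symm
    have hk : ∀ c : k, algebraMap k L c = ι (algebraMap k F c) := fun c => by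
      rw [huniq _ (upR_mem_genPair α c), AlgHom.commutes]
    have hι1 : ι 1 = 1 := by simpa using (hk 1).symm
    have hι0 : ι 0 = 0 := by simpa using (hk 0).symm
    -- the element interchanging the two points
    have hswap : ∀ t : F, t ≠ 0 → 1 + ι t * κ (-t⁻¹) = 0 := by
      intro t ht
      let g : X := ⟨upR (ι t), hιX t⟩ * ⟨loR (κ (-t⁻¹)), hκX _⟩ * ⟨upR (ι t), hιX t⟩
      have hfg : f g = upR t * loR (-t⁻¹) * upR t := by rw [map_mul, map_mul, hfu, hfl, hιq, hκq]
      have hc : g * u1 * g⁻¹ = ⟨loR (κ (-t⁻¹ ^ 2)), hκX _⟩ := hinjp _ _ (by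
        rw [map_mul, map_mul, map_inv, hfu, hfl, hκq, mul_inv_eq_iff_eq_mul, hfg, map_one]
        apply Subtype.ext
        ext i j
        fin_cases i <;> fin_cases j <;>
          simp [coe_upR, coe_loR, Matrix.mul_apply, Fin.sum_univ_two, ht] <;> field_simp <;> ring)
        (by rw [conj_pow, hu1p, mul_one, mul_inv_cancel]) (hLp _ _)
      have e := congrArg (fun x : X => (x : SL(2, L)).1) (mul_inv_eq_iff_eq_mul.1 hc)
      have e01 := congrFun (congrFun e 0) 1
      simp [g, u1, coe_upR, coe_loR, Matrix.mul_apply, Fin.sum_univ_two] at e01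
      linear_combination e01
    have hinvκ : ∀ s : F, s ≠ 0 → ι s⁻¹ * κ s = 1 := fun s hs => by
      have := hswap (-s⁻¹) (neg_ne_zero.2 (inv_ne_zero hs))
      rw [inv_neg, neg_neg, inv_inv, hneg] at this
      linear_combination -this
    have hκ1 : κ 1 = 1 := by simpa [hι1] using hinvκ 1 one_ne_zero
    have hsq : ∀ s t : F, t ≠ 0 → κ (s / t ^ 2) = ι s * κ t⁻¹ ^ 2 := by
      intro s t ht
      have hg00 := hswap t ht
      let g : SL(2, L) := upR (ι t) * loR (κ (-t⁻¹)) * upR (ι t)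
      have hgX : g ∈ X := mul_mem (mul_mem (hιX t) (hκX _)) (hιX t)
      have hgi : g * upR (ι (-s)) * g⁻¹ = loR (ι s * κ (-t⁻¹) ^ 2) := by
        rw [mul_inv_eq_iff_eq_mul]
        apply Subtype.ext
        ext i j
        fin_cases i <;> fin_cases j <;>
          simp [g, hneg, coe_upR, coe_loR, Matrix.mul_apply, Fin.sum_univ_two] <;>
          first
            | ring1
            | linear_combination (ι s) * hg00
            | linear_combination -(ι s) * hg00
            | linear_combination (ι s * κ (-t⁻¹)) * hg00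
            | linear_combination -(ι s * κ (-t⁻¹)) * hg00
            | linear_combination (ι s * κ (-t⁻¹) ^ 2) * hg00
            | linear_combination -(ι s * κ (-t⁻¹) * (1 + ι t * κ (-t⁻¹))) * hg00
      have := huniqL _ (hgi ▸ mul_mem (mul_mem hgX (hιX (-s))) (inv_mem hgX))
      rw [map_mul, map_pow, hιq, hκq] at this
      have hκn : κ (-t⁻¹) = -κ t⁻¹ := by
        have := huniqL (-κ t⁻¹) (by rw [← loR_inv]; exact inv_mem (hκX _))
        rw [map_neg, hκq] at this; exact this.symm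
      rw [hκn, neg_sq, neg_sq, inv_pow, ← div_eq_mul_inv] at this
      exact this.symm
    have hκι : ∀ s, κ s = ι s := fun s => by simpa [hκ1] using hsq s 1 one_ne_zero
    have hmulsq : ∀ x y : F, ι (x * y ^ 2) = ι x * ι y ^ 2 := by
      intro x y
      rcases eq_or_ne y 0 with rfl | hy
      · simp [hι0]
      · have := hsq x y⁻¹ (inv_ne_zero hy)
        rwa [inv_inv, hκι, hκι, inv_pow, div_inv_eq_mul] at this
    have hmul : ∀ x y : F, ι (x * y) = ι x * ι y := by
      intro x y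
      have a := hmulsq 1 (x + y)
      have b := hmulsq 1 x
      have c := hmulsq 1 y
      rw [one_mul, hι1, one_mul] at a b c
      have d : ι ((x + y) ^ 2) = ι (x ^ 2) + ι (y ^ 2) + (ι (x * y) + ι (x * y)) := by
        rw [← hadd, ← hadd, ← hadd]; congr 1; ring
      rw [hadd] at a
      refine h2.mul_left_cancel ?_
      linear_combination a - d - b - c
    have hαι : α = ι (q α) := (huniqL α hl1).trans (hκι _)
    have hid : ∀ x, ι (q x) = x := by
      intro x
      have hx : x ∈ Algebra.adjoin k ({α} : Set L) := by rw [hgen]; trivial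
      induction hx using Algebra.adjoin_induction with
      | mem y hy => rw [Set.mem_singleton_iff] at hy; subst hy; exact hαι.symm
      | algebraMap c => rw [AlgHom.commutes]; exact (hk c).symm
      | add x y _ _ hx hy => rw [map_add, hadd, hx, hy]
      | mul x y _ _ hx hy => rw [map_mul, hmul, hx, hy]
    have hbot : m = ⊥ := by
      rw [eq_bot_iff]
      intro x hx
      rw [Ideal.mem_bot, ← hid x, show q x = 0 from Ideal.Quotient.eq_zero_iff_mem.2 hx, hι0]
    subst hbot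
    exact hnf (Ring.isField_iff_maximal_bot.2 hm)

end Cfsg.Agent.QuadPair
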