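/-
Two conjugates of an element of order 3 of ²G₂(3) generate a subgroup with an involution which does not
commute with the element: certified word computations (namespace `Cfsg.Agent.QuadPair`).
-/
import Cfsg.Agent.Lib.Twisted.Chain
import Cfsg.Prelude.Def_ChevG2

set_option autoImplicit false
set_option maxRecDepth 20000

namespace Cfsg.Agent.QuadPair

open Cfsg.Lie
open Cfsg.Lie.ChevalleyDatum
open Cfsg.Agent.Twisted

/-- The coordinates of G₂. -/
def coords : List chevG2.Idx :=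
  ((List.finRange 2).map fun i => (Sum.inl i : chevG2.Idx)) ++ (List.finRange 12).map fun s => (Sum.inr s : chevG2.Idx)

/-- Collect a list of terms modulo 3. -/
def collect (L : List (Key chevG2 × ℤ)) : List (chevG2.Idx × ℤ) :=
  coords.filterMap fun a =>
    let c := ((L.filter fun y => y.1 = key chevG2 a).map fun y => y.2).sum % 3
    if c = 0 then none else some (a, c)

/-- The value of a word on a sparse vector, with the intermediate vectors. -/
def runW : List (ℕ × ℤ) → List (chevG2.Idx × ℤ) → List (chevG2.Idx × ℤ) × List (List (chevG2.Idx × ℤ))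
  | [], S => (S, [])
  | g :: w, S =>
    match runW w S with
    | (U, Us) => (collect (stepTerms chevG2 g.1 g.2 U []), U :: Us)

/-- The inverse of a word. -/
def invW (w : List (ℕ × ℤ)) : List (ℕ × ℤ) := (w.map fun l => (l.1, -l.2)).reverse

/-- The element `(0, 1, 0)`. -/
def aU : List (ℕ × ℤ) := [(8, 1), (10, 1)]

/-- The conjugating element for `(0, 1, 0)`. -/
def gU : List (ℕ × ℤ) := [(4, 1), (5, 1), (3, -2), (1, -1), (0, -1)]

/-- The involution `a b⁻¹`. -/
def cU : List (ℕ × ℤ) := aU ++ (gU ++ invW aU ++ invW gU)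

/-- The element `(0, 0, 1)`. -/
def aV : List (ℕ × ℤ) := [(9, 1), (11, 1)]

/-- The conjugating element for `(0, 0, 1)`. -/
def gV : List (ℕ × ℤ) := [(4, 1), (5, 1), (2, 2), (1, 1), (0, 1)]

/-- The conjugate of `(0, 0, 1)`. -/
def bV : List (ℕ × ℤ) := gV ++ aV ++ invW gV

/-- The involution `a b a b a b⁻¹`. -/
def cV : List (ℕ × ℤ) := aV ++ (bV ++ (aV ++ (bV ++ (aV ++ invW bV))))

/-- The coefficient of a coordinate. -/
def coefAt (T : List (chevG2.Idx × ℤ)) (a : chevG2.Idx) : ℤ :=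
  ((T.filter fun y => y.1 = a).map fun y => y.2).sum

/-- The commutator word of `c` with `a`. -/
def commW (c a : List (ℕ × ℤ)) : List (ℕ × ℤ) := c ++ a ++ invW c ++ invW a

theorem sqU_ok : ∀ c, Chk chevG2 3 (cU ++ cU) (runW (cU ++ cU) [(c, 1)]).2 [(c, 1)] [(c, 1)] := by
  rintro (i | i) <;> fin_cases i <;> decide +kernel

theorem sqV_ok : ∀ c, Chk chevG2 3 (cV ++ cV) (runW (cV ++ cV) [(c, 1)]).2 [(c, 1)] [(c, 1)] := by
  rintro (i | i) <;> fin_cases i <;> decide +kernel

theorem commU_ok : ∃ k a,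
    Chk chevG2 3 (commW cU aU) (runW (commW cU aU) [(k, 1)]).2 [(k, 1)] (runW (commW cU aU) [(k, 1)]).1 ∧
      ¬ (3 : ℤ) ∣ coefAt (runW (commW cU aU) [(k, 1)]).1 a - coefAt [(k, 1)] a := by
  refine ⟨Sum.inl (0 : Fin 2), Sum.inl (0 : Fin 2), ?_, ?_⟩ <;> decide +kernel

theorem commV_ok : ∃ k a,
    Chk chevG2 3 (commW cV aV) (runW (commW cV aV) [(k, 1)]).2 [(k, 1)] (runW (commW cV aV) [(k, 1)]).1 ∧
      ¬ (3 : ℤ) ∣ coefAt (runW (commW cV aV) [(k, 1)]).1 a - coefAt [(k, 1)] a := by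
  refine ⟨Sum.inl (0 : Fin 2), Sum.inl (0 : Fin 2), ?_, ?_⟩ <;> decide +kernel

end Cfsg.Agent.QuadPair
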