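/-
Elements of order 3 of ²G₂(q) have the involution property (namespace `Cfsg.Agent.QuadPair`).

* `crit_ree`
-/
import Cfsg.Agent.Lib.QuadPair.ReeCert
import Cfsg.Agent.Lib.QuadPair.Basic
import Cfsg.Agent.Lib.Twisted.G2More

set_option autoImplicit false
set_option linter.unusedSectionVars false
set_option linter.style.haveILetI false

namespace Cfsg.Agent.QuadPair

open Cfsg.Lie Matrix
open Cfsg.Lie.ChevalleyDatum
open Cfsg.Agent.Chev Cfsg.Agent.ChevBN Cfsg.Agent.Twisted

variable {K : Type*} [Field K] {m : ℕ}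

/-- The element of a word with integer coefficients. -/
noncomputable def eW (K : Type*) [Field K] (w : List (ℕ × ℤ)) : GL chevG2.Idx K :=
  (w.map fun l => xG K l.1 (l.2 : K)).prod

theorem eW_val (w : List (ℕ × ℤ)) :
    (eW K w : Matrix chevG2.Idx chevG2.Idx K) = chevG2.wordMat K (w.map fun g => (g.1, (g.2 : K))) := by
  induction w with
  | nil => simp [eW, ChevalleyDatum.wordMat]
  | cons l w ih =>
    simp only [eW, List.map_cons, List.prod_cons, Units.val_mul, ChevalleyDatum.wordMat, coe_xg] at ih ⊢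
    rw [ih]

theorem eW_append (u v : List (ℕ × ℤ)) : eW K (u ++ v) = eW K u * eW K v := by
  simp [eW]

theorem eW_invW (w : List (ℕ × ℤ)) (hw : ∀ l ∈ w, l.1 < chevG2.nroots) : eW K (invW w) = (eW K w)⁻¹ := by
  induction w with
  | nil => simp [eW, invW]
  | cons l w ih =>
    have h1 : invW (l :: w) = invW w ++ [(l.1, -l.2)] := by simp [invW]
    have h3 : xG K l.1 (-(l.2 : K)) = (xG K l.1 (l.2 : K))⁻¹ := by
      refine eq_inv_of_mul_eq_one_left ?_
      rw [xG, xG, xg_add good_chevG2 (hw l List.mem_cons_self), neg_add_cancel, xg_zero]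
    rw [h1, eW_append, ih fun x hx => hw x (List.mem_cons_of_mem _ hx)]
    simp [eW, h3]

theorem vecOf_apply (T : List (chevG2.Idx × ℤ)) (a : chevG2.Idx) :
    vecOf chevG2 K T a = (coefAt T a : K) := by
  induction T with
  | nil => simp [vecOf, coefAt]
  | cons y T ih =>
    simp only [vecOf, coefAt, List.map_cons, List.sum_cons, Pi.add_apply, Pi.smul_apply, smul_eq_mul,
      List.filter_cons] at ih ⊢
    rw [ih]
    by_cases h : y.1 = a
    · subst h
      simp [bv]
    · have h' : key chevG2 a ≠ key chevG2 y.1 := fun e => h (key_injective chevG2 e).symm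
      simp [bv, h, h']

theorem eW_eq_one [CharP K 3] {w : List (ℕ × ℤ)} {cert : chevG2.Idx → List (List (chevG2.Idx × ℤ))}
    (h : ∀ c, Chk chevG2 3 w (cert c) [(c, 1)] [(c, 1)]) : eW K w = 1 := by
  refine Units.ext (Matrix.ext_of_mulVec_single fun c => ?_)
  have hb : bv chevG2 K (key chevG2 c) = Pi.single c 1 := by
    ext b
    simp [bv, Pi.single_apply, (key_injective chevG2).eq_iff]
  have hs := chk_spec good_chevG2 (F := K) (h c)
  simp only [vecOf, List.map_cons, List.map_nil, List.sum_cons, List.sum_nil, add_zero, Int.cast_one, one_smul,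
    hb] at hs
  rw [eW_val, hs, Units.val_one, Matrix.one_mulVec]

theorem eW_ne_one [CharP K 3] {w : List (ℕ × ℤ)} {cert : List (List (chevG2.Idx × ℤ))}
    {k a : chevG2.Idx} {T : List (chevG2.Idx × ℤ)} (h : Chk chevG2 3 w cert [(k, 1)] T)
    (hne : ¬ (3 : ℤ) ∣ coefAt T a - coefAt [(k, 1)] a) : eW K w ≠ 1 := by
  intro he
  have hs := chk_spec good_chevG2 (F := K) h
  rw [← eW_val, he, Units.val_one, Matrix.one_mulVec] at hs
  have h1 := congrFun hs a
  rw [vecOf_apply, vecOf_apply] at h1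
  refine hne ((CharP.intCast_eq_zero_iff K 3 _).1 ?_)
  rw [Int.cast_sub, h1, sub_self]

variable [Fintype K] [CharP K 3] (hm : 1 ≤ m) (hK : Fintype.card K = 3 ^ (2 * m + 1))
include hK

/-- The involution property transported from the matrices. -/
theorem crit_of_coe {x g c : ↥(twistedG2 K (3 ^ m))}
    (hc : c ∈ Subgroup.closure ({x, g * x * g⁻¹} : Set ↥(twistedG2 K (3 ^ m))))
    (hsq : (c : GL chevG2.Idx K) * c = 1)
    (hne : (c : GL chevG2.Idx K) * x * (c : GL chevG2.Idx K)⁻¹ * (x : GL chevG2.Idx K)⁻¹ ≠ 1) : Crit x := by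
  refine ⟨g, c, hc, Subtype.ext hsq, fun h => hne ?_⟩
  have h' : (c : GL chevG2.Idx K) * x = x * c := congrArg Subtype.val h
  rw [h']
  group

theorem crit_u : Crit (⟨reeG m (0 : K) 1 0, U1_le_twisted hK (ree_mem_U1 hK _ _ _)⟩ : ↥(twistedG2 K (3 ^ m))) := by
  have he0 : ((0 : K)) ^ 3 ^ m = 0 := zero_pow (pow_ne_zero _ (by norm_num))
  have ha : reeG m (0 : K) 1 0 = eW K aU := by
    simp [reeG, ree6, uel, eW, aU, xg_zero, he0, pow_succ, pow_mul]
  have hodd : Odd (3 ^ m) := Odd.pow (by decide)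
  have hg : nu good_chevG2 K (reeG m (-1 : K) 1 1) = eW K gU := by
    have h1 : ((-1 : K)) ^ 3 ^ m = -1 := hodd.neg_one_pow
    have h2 : ((-1 : K)) ^ (2 * 3 ^ m + 1) = -1 := (odd_two_mul_add_one _).neg_one_pow
    simp only [reeG, ree6, uel, map_mul, nu_xg good_chevG2 K nuG2 (show 7 < chevG2.nroots by decide),
      nu_xg good_chevG2 K nuG2 (show 6 < chevG2.nroots by decide),
      nu_xg good_chevG2 K nuG2 (show 8 < chevG2.nroots by decide),
      nu_xg good_chevG2 K nuG2 (show 9 < chevG2.nroots by decide),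
      nu_xg good_chevG2 K nuG2 (show 10 < chevG2.nroots by decide),
      nu_xg good_chevG2 K nuG2 (show 11 < chevG2.nroots by decide),
      show chevG2.neg 7 = 4 by decide, show chevG2.neg 6 = 5 by decide, show chevG2.neg 8 = 3 by decide,
      show chevG2.neg 9 = 2 by decide, show chevG2.neg 10 = 1 by decide, show chevG2.neg 11 = 0 by decide]
    simp [eW, gU, h1, h2, pow_succ, xg_zero, mul_assoc]
    norm_num
  set a : ↥(twistedG2 K (3 ^ m)) := ⟨reeG m (0 : K) 1 0, U1_le_twisted hK (ree_mem_U1 hK _ _ _)⟩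
  set g : ↥(twistedG2 K (3 ^ m)) := ⟨nu good_chevG2 K (reeG m (-1 : K) 1 1), nu_U1_mem_twisted hK (ree_mem_U1 hK _ _ _)⟩
  have hca : (a : GL chevG2.Idx K) = eW K aU := ha
  have hcg : (g : GL chevG2.Idx K) = eW K gU := hg
  have hcc : ((a * (g * a * g⁻¹)⁻¹ : ↥(twistedG2 K (3 ^ m))) : GL chevG2.Idx K) = eW K cU := by
    rw [cU, eW_append, eW_append, eW_append, eW_invW aU (by decide), eW_invW gU (by decide)]
    simp only [Subgroup.coe_mul, Subgroup.coe_inv, hca, hcg]
    group
  refine crit_of_coe hK (g := g) (c := a * (g * a * g⁻¹)⁻¹)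
    (mul_mem (Subgroup.subset_closure (Set.mem_insert _ _))
      (inv_mem (Subgroup.subset_closure (Set.mem_insert_of_mem _ (Set.mem_singleton _))))) ?_ ?_
  · rw [hcc, ← eW_append]
    exact eW_eq_one sqU_ok
  · obtain ⟨k, i, hk, hne⟩ := commU_ok
    have h := eW_ne_one (K := K) hk hne
    rw [commW, eW_append, eW_append, eW_append, eW_invW aU (by decide), eW_invW cU (by decide)] at h
    rwa [hcc, hca]

theorem crit_v : Crit (⟨reeG m (0 : K) 0 1, U1_le_twisted hK (ree_mem_U1 hK _ _ _)⟩ : ↥(twistedG2 K (3 ^ m))) := by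
  have he0 : ((0 : K)) ^ 3 ^ m = 0 := zero_pow (pow_ne_zero _ (by norm_num))
  have ha : reeG m (0 : K) 0 1 = eW K aV := by
    simp [reeG, ree6, uel, eW, aV, xg_zero, he0, pow_succ, pow_mul]
  have hodd : Odd (3 ^ m) := Odd.pow (by decide)
  have hg : nu good_chevG2 K (reeG m (-1 : K) (-1) (-1)) = eW K gV := by
    have h1 : ((-1 : K)) ^ 3 ^ m = -1 := hodd.neg_one_pow
    have h2 : ((-1 : K)) ^ (2 * 3 ^ m + 1) = -1 := (odd_two_mul_add_one _).neg_one_pow
    simp only [reeG, ree6, uel, map_mul, nu_xg good_chevG2 K nuG2 (show 7 < chevG2.nroots by decide),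
      nu_xg good_chevG2 K nuG2 (show 6 < chevG2.nroots by decide),
      nu_xg good_chevG2 K nuG2 (show 8 < chevG2.nroots by decide),
      nu_xg good_chevG2 K nuG2 (show 9 < chevG2.nroots by decide),
      nu_xg good_chevG2 K nuG2 (show 10 < chevG2.nroots by decide),
      nu_xg good_chevG2 K nuG2 (show 11 < chevG2.nroots by decide),
      show chevG2.neg 7 = 4 by decide, show chevG2.neg 6 = 5 by decide, show chevG2.neg 8 = 3 by decide,
      show chevG2.neg 9 = 2 by decide, show chevG2.neg 10 = 1 by decide, show chevG2.neg 11 = 0 by decide]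
    simp [eW, gV, h1, h2, pow_succ, xg_zero, mul_assoc]
    norm_num
  set a : ↥(twistedG2 K (3 ^ m)) := ⟨reeG m (0 : K) 0 1, U1_le_twisted hK (ree_mem_U1 hK _ _ _)⟩
  set g : ↥(twistedG2 K (3 ^ m)) :=
    ⟨nu good_chevG2 K (reeG m (-1 : K) (-1) (-1)), nu_U1_mem_twisted hK (ree_mem_U1 hK _ _ _)⟩
  have hca : (a : GL chevG2.Idx K) = eW K aV := ha
  have hcg : (g : GL chevG2.Idx K) = eW K gV := hg
  set b : ↥(twistedG2 K (3 ^ m)) := g * a * g⁻¹ with hb
  have hcb : (b : GL chevG2.Idx K) = eW K bV := by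
    rw [bV, eW_append, eW_append, eW_invW gV (by decide)]
    simp only [hb, Subgroup.coe_mul, Subgroup.coe_inv, hca, hcg]
  have hcc : ((a * (b * (a * (b * (a * b⁻¹)))) : ↥(twistedG2 K (3 ^ m))) : GL chevG2.Idx K) = eW K cV := by
    rw [cV, eW_append, eW_append, eW_append, eW_append, eW_append, eW_invW bV (by decide)]
    simp only [Subgroup.coe_mul, Subgroup.coe_inv, hca, hcb]
  have h1 : a ∈ Subgroup.closure ({a, b} : Set ↥(twistedG2 K (3 ^ m))) := Subgroup.subset_closure (Set.mem_insert _ _)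
  have h2 : b ∈ Subgroup.closure ({a, b} : Set ↥(twistedG2 K (3 ^ m))) :=
    Subgroup.subset_closure (Set.mem_insert_of_mem _ (Set.mem_singleton _))
  refine crit_of_coe hK (g := g) (c := a * (b * (a * (b * (a * b⁻¹)))))
    (mul_mem h1 (mul_mem h2 (mul_mem h1 (mul_mem h2 (mul_mem h1 (inv_mem h2)))))) ?_ ?_
  · rw [hcc, ← eW_append]
    exact eW_eq_one sqV_ok
  · obtain ⟨k, i, hk, hne⟩ := commV_ok
    have h := eW_ne_one (K := K) hk hne
    rw [commW, eW_append, eW_append, eW_append, eW_invW aV (by decide), eW_invW cV (by decide)] at h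
    rwa [hcc, hca]

/-- Elements of order three of `U¹`. -/
theorem crit_U1 (u v : K) (hne : reeG m (0 : K) u v ≠ 1) :
    Crit (⟨reeG m (0 : K) u v, U1_le_twisted hK (ree_mem_U1 hK _ _ _)⟩ : ↥(twistedG2 K (3 ^ m))) := by
  let T : ↥(twistedG2 K (3 ^ m)) → Prop := fun x => Crit x
  have hH : ∀ s : Kˣ, tor m s ∈ twistedG2 K (3 ^ m) := fun s => H1_le_twisted hK ((mem_H1_iff hK).2 ⟨s, rfl⟩)
  by_cases hu : u = 0
  · -- the centre of `U¹`
    subst hu
    have hv : v ≠ 0 := fun h => hne (by rw [h, ree_zero])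
    obtain ⟨s, hs⟩ : ∃ s : Kˣ, (s : K) ^ (3 * 3 ^ m + 2) = v := by
      have hinj : Function.Injective (powMonoidHom (3 * 3 ^ m + 2) : Kˣ →* Kˣ) := by
        refine (injective_iff_map_eq_one _).2 fun s hs => ?_
        have hs' : (s : K) ^ (3 * 3 ^ m + 2) = 1 := by
          rw [← Units.val_pow_eq_pow_val]; exact congrArg Units.val hs
        have hne' : reeG m (0 : K) 0 1 ≠ 1 := fun h => by
          rw [← ree_zero (K := K) (m := m)] at h
          exact one_ne_zero (ree_inj h).2.2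
        rcases commute_cases hK hne' (s := s) (by rw [tor_conj hK, hs', mul_zero, mul_zero, one_mul]) with h | ⟨-, h, -⟩
        · exact h
        · exact absurd h one_ne_zero
      obtain ⟨s, hs⟩ := Finite.injective_iff_surjective.1 hinj (Units.mk0 v hv)
      exact ⟨s, by rw [← Units.val_pow_eq_pow_val]; exact congrArg Units.val hs⟩
    convert (crit_v hK).conj ⟨tor m s, hH s⟩ using 1
    refine Subtype.ext ?_
    simp only [Subgroup.coe_mul, Subgroup.coe_inv, tor_conj hK, mul_zero, mul_one, hs]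
  · -- the other elements are conjugate to `(0, ± 1, 0)`
    refine Crit.of_conj ⟨reeG m (-v / u) 0 0, U1_le_twisted hK (ree_mem_U1 hK _ _ _)⟩ ?_
    have e : reeG m (-v / u) 0 0 * reeG m 0 u v * (reeG m (-v / u) 0 0)⁻¹ = reeG m 0 u 0 := by
      rw [mul_inv_eq_iff_eq_mul, ree_mul_zero hK, ree_mul hK]
      congr 1
      · ring
      · ring
      · field_simp; ring
    obtain ⟨s, hs⟩ : ∃ s : Kˣ, (s : K) ^ (3 * 3 ^ m + 1) = u ∨ (s : K) ^ (3 * 3 ^ m + 1) = -u := by
      obtain ⟨k, hk, hodd⟩ := odd_half hK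
      have hcard : Nat.card Kˣ = 2 * k := by rw [Nat.card_units, Nat.card_eq_fintype_card, hK, hk]
      let S := (powMonoidHom k : Kˣ →* Kˣ).ker
      let φ : S →* S := powMonoidHom (3 * 3 ^ m + 1)
      have hinj : Function.Injective φ := by
        refine (injective_iff_map_eq_one _).2 fun σ hσ => ?_
        have hs' : ((σ : Kˣ) : K) ^ (3 * 3 ^ m + 1) = 1 := by
          rw [← Units.val_pow_eq_pow_val, ← SubmonoidClass.coe_pow]
          exact congrArg (fun z : S => ((z : Kˣ) : K)) hσ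
        have hne' : reeG m (0 : K) 1 0 ≠ 1 := fun h => by
          rw [← ree_zero (K := K) (m := m)] at h
          exact one_ne_zero (ree_inj h).2.1
        rcases commute_cases hK hne' (s := (σ : Kˣ)) (by rw [tor_conj hK, hs', mul_zero, mul_zero, one_mul]) with h | ⟨-, -, h⟩
        · exact Subtype.ext h
        · have h2 : (σ : Kˣ) ^ 2 = 1 := by rw [sq]; exact Units.ext h
          have hk1 : (σ : Kˣ) ^ k = 1 := σ.2
          obtain ⟨j, rfl⟩ := hodd
          rw [pow_succ, pow_mul, h2, one_pow, one_mul] at hk1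
          exact Subtype.ext hk1
      have hmem : ∀ w : Kˣ, w ^ k = 1 ∨ (-w) ^ k = 1 := by
        intro w
        have h1 : (w ^ k) * (w ^ k) = 1 := by
          rw [← pow_add, show k + k = Nat.card Kˣ by omega, pow_card_eq_one']
        have h1' : ((w ^ k : Kˣ) : K) * ((w ^ k : Kˣ) : K) = 1 := by rw [← Units.val_mul, h1, Units.val_one]
        rcases mul_self_eq_one_iff.1 h1' with h | h
        · exact Or.inl (Units.ext h)
        · refine Or.inr (Units.ext ?_)
          rw [Odd.neg_pow hodd, Units.val_neg, h, neg_neg, Units.val_one]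
      rcases hmem (Units.mk0 u hu) with h | h
      · obtain ⟨s, hs⟩ := Finite.injective_iff_surjective.1 hinj ⟨_, h⟩
        exact ⟨s, Or.inl (by
          rw [← Units.val_pow_eq_pow_val, ← SubmonoidClass.coe_pow]
          exact congrArg (fun z : S => ((z : Kˣ) : K)) hs)⟩
      · obtain ⟨s, hs⟩ := Finite.injective_iff_surjective.1 hinj ⟨_, h⟩
        exact ⟨s, Or.inr (by
          rw [← Units.val_pow_eq_pow_val, ← SubmonoidClass.coe_pow]
          exact congrArg (fun z : S => ((z : Kˣ) : K)) hs)⟩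
    rcases hs with hs | hs
    · convert (crit_u hK).conj ⟨tor m s, hH s⟩ using 1
      refine Subtype.ext ?_
      simp only [Subgroup.coe_mul, Subgroup.coe_inv, e, tor_conj hK, mul_zero, mul_one, hs]
    · convert ((crit_u hK).conj ⟨tor m s, hH s⟩).inv using 1
      refine Subtype.ext ?_
      simp only [Subgroup.coe_mul, Subgroup.coe_inv, e, tor_conj hK, mul_zero, mul_one, hs]
      refine eq_inv_of_mul_eq_one_left ?_
      rw [ree_mul_zero hK]
      rw [add_neg_cancel, add_zero, ree_zero]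

/-- Elements of order three of ²G₂(q). -/
theorem crit_ree (x : ↥(twistedG2 K (3 ^ m))) (hx1 : x ≠ 1) (hx : x ^ 3 = 1) : Crit x := by
  haveI : Fact (Nat.Prime 3) := ⟨Nat.prime_three⟩
  set W := (foldK K m).U1.subgroupOf (twistedG2 K (3 ^ m))
  have hW : Nat.card W = 3 ^ (Nat.card ↥(twistedG2 K (3 ^ m))).factorization 3 := by
    have h1 : Nat.card W = (3 ^ (2 * m + 1)) ^ 3 := by
      rw [Nat.card_congr (Subgroup.subgroupOfEquivOfLe (U1_le_twisted hK)).toEquiv, card_U1 hK]
    rw [h1, card_ree hK, ← pow_mul]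
    congr 1
    have hq : 3 ≤ 3 ^ (2 * m + 1) := le_self_pow₀ (by norm_num) (by omega)
    have d1 : ¬ 3 ∣ 3 ^ (2 * m + 1) - 1 := by
      intro h
      have h' : 3 ∣ 3 ^ (2 * m + 1) := dvd_pow_self 3 (by omega)
      omega
    have d2 : ¬ 3 ∣ 3 ^ ((2 * m + 1) * 3) + 1 := by
      intro h
      have h' : 3 ∣ 3 ^ ((2 * m + 1) * 3) := dvd_pow_self 3 (by omega)
      omega
    rw [Nat.factorization_mul (mul_ne_zero (pow_ne_zero _ (by norm_num)) (by omega)) (Nat.succ_ne_zero _),
      Nat.factorization_mul (pow_ne_zero _ (by norm_num)) (by omega), Finsupp.add_apply, Finsupp.add_apply,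
      Nat.factorization_pow, Finsupp.smul_apply, Nat.Prime.factorization_self Nat.prime_three,
      Nat.factorization_eq_zero_of_not_dvd d1, Nat.factorization_eq_zero_of_not_dvd d2]
    simp
  set P₀ := Sylow.ofCard W hW
  have hz : IsPGroup 3 (Subgroup.zpowers x) := by
    refine IsPGroup.of_card (n := 1) ?_
    rw [Nat.card_zpowers, pow_one, orderOf_eq_prime hx hx1]
  obtain ⟨P, hP⟩ := hz.exists_le_sylow
  obtain ⟨h, hh⟩ := MulAction.exists_smul_eq ↥(twistedG2 K (3 ^ m)) P P₀
  refine Crit.of_conj h ?_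
  have hmem : h * x * h⁻¹ ∈ W := by
    have h1 : h * x * h⁻¹ ∈ ((h • P : Sylow 3 ↥(twistedG2 K (3 ^ m))) : Subgroup ↥(twistedG2 K (3 ^ m))) := by
      rw [Sylow.coe_subgroup_smul]
      have h2 := Subgroup.smul_mem_pointwise_smul x (MulAut.conj h) _ (hP (Subgroup.mem_zpowers x))
      rwa [MulAut.smul_def, MulAut.conj_apply] at h2
    rw [hh] at h1
    exact h1
  obtain ⟨t, u, v, e⟩ := (mem_U1_iff hK).1 (Subgroup.mem_subgroupOf.1 hmem)
  have hpow : (h * x * h⁻¹) ^ 3 = 1 := by rw [conj_pow, hx, mul_one, mul_inv_cancel]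
  have hpow' : reeG m t u v ^ 3 = 1 := by
    show uel good_chevG2 K (ree6 K (3 ^ m) t u v) ^ 3 = 1
    rw [← e, ← SubmonoidClass.coe_pow, hpow, OneMemClass.coe_one]
  rw [ree_cube hK, ← ree_zero (K := K) (m := m)] at hpow'
  have ht : t = 0 := by
    have h3 := (ree_inj hpow').2.2
    by_contra ht
    exact (neg_ne_zero.2 (mul_ne_zero (pow_ne_zero _ (pow_ne_zero _ ht)) (pow_ne_zero _ ht))) h3
  subst ht
  convert crit_U1 hK u v (fun h' => hx1 ?_) using 1
  · exact Subtype.ext e
  · exact conj_eq_one_iff.1 (Subtype.ext (e.trans h'))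

end Cfsg.Agent.QuadPair
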