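import Cfsg.Agent.Lib.RankOne.GenFinite

/-!
`SL₂` over a commutative ring: unitriangular elements and the subgroup `genPairR k α` generated by
`upR (k)` and `loR (k α)`.
-/

set_option autoImplicit false

namespace Cfsg.Agent.QuadPair

open Matrix
open scoped MatrixGroups

variable {R : Type*} [CommRing R]

/-- The upper unitriangular matrix with entry `t`. -/
def upR (t : R) : SL(2, R) := ⟨!![1, t; 0, 1], by simp [Matrix.det_fin_two]⟩

/-- The lower unitriangular matrix with entry `t`. -/
def loR (t : R) : SL(2, R) := ⟨!![1, 0; t, 1], by simp [Matrix.det_fin_two]⟩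

theorem coe_upR (t : R) : ((upR t : SL(2, R)) : Matrix (Fin 2) (Fin 2) R) = !![1, t; 0, 1] := rfl

theorem coe_loR (t : R) : ((loR t : SL(2, R)) : Matrix (Fin 2) (Fin 2) R) = !![1, 0; t, 1] := rfl

theorem upR_mul (s t : R) : upR s * upR t = upR (s + t) := by
  apply Subtype.ext; simp [coe_upR, add_comm]

theorem loR_mul (s t : R) : loR s * loR t = loR (s + t) := by
  apply Subtype.ext; simp [coe_loR]

theorem upR_zero : upR (0 : R) = 1 := by
  apply Subtype.ext; simp [coe_upR, Matrix.one_fin_two]

theorem loR_zero : loR (0 : R) = 1 := by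
  apply Subtype.ext; simp [coe_loR, Matrix.one_fin_two]

theorem upR_inv (t : R) : (upR t)⁻¹ = upR (-t) :=
  inv_eq_of_mul_eq_one_right (by rw [upR_mul, add_neg_cancel, upR_zero])

theorem loR_inv (t : R) : (loR t)⁻¹ = loR (-t) :=
  inv_eq_of_mul_eq_one_right (by rw [loR_mul, add_neg_cancel, loR_zero])

theorem upR_inj {s t : R} (h : upR s = upR t) : s = t := by
  simpa [coe_upR] using congrArg (fun g : SL(2, R) => (g : Matrix (Fin 2) (Fin 2) R) 0 1) h

theorem loR_inj {s t : R} (h : loR s = loR t) : s = t := by
  simpa [coe_loR] using congrArg (fun g : SL(2, R) => (g : Matrix (Fin 2) (Fin 2) R) 1 0) h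

theorem map_upR {S : Type*} [CommRing S] (f : R →+* S) (t : R) :
    Matrix.SpecialLinearGroup.map f (upR t) = upR (f t) := by
  apply Subtype.ext; ext i j
  fin_cases i <;> fin_cases j <;> simp [coe_upR]

theorem map_loR {S : Type*} [CommRing S] (f : R →+* S) (t : R) :
    Matrix.SpecialLinearGroup.map f (loR t) = loR (f t) := by
  apply Subtype.ext; ext i j
  fin_cases i <;> fin_cases j <;> simp [coe_loR]

theorem upR_eq {K : Type*} [Field K] (t : K) : upR t = RankOne.upSL t := rfl

theorem loR_eq {K : Type*} [Field K] (t : K) : loR t = RankOne.loSL t := rfl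

/-- The subgroup generated by `upR c` and `loR (c α)`, `c ∈ k`. -/
def genPairR (k : Type*) {L : Type*} [Field k] [CommRing L] [Algebra k L] (α : L) : Subgroup SL(2, L) :=
  Subgroup.closure (Set.range (fun c : k => upR (algebraMap k L c)) ∪
    Set.range (fun c : k => loR (algebraMap k L c * α)))

theorem upR_mem_genPair {k L : Type*} [Field k] [CommRing L] [Algebra k L] (α : L) (c : k) :
    upR (algebraMap k L c) ∈ genPairR k α := Subgroup.subset_closure (Or.inl ⟨c, rfl⟩)

theorem loR_mem_genPair {k L : Type*} [Field k] [CommRing L] [Algebra k L] (α : L) (c : k) :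
    loR (algebraMap k L c * α) ∈ genPairR k α := Subgroup.subset_closure (Or.inr ⟨c, rfl⟩)

theorem genPairR_map {k L L' : Type*} [Field k] [CommRing L] [Algebra k L] [CommRing L'] [Algebra k L']
    (f : L →ₐ[k] L') (α : L) :
    (genPairR k α).map (Matrix.SpecialLinearGroup.map (f : L →+* L')) = genPairR k (f α) := by
  rw [genPairR, genPairR, MonoidHom.map_closure, Set.image_union, ← Set.range_comp, ← Set.range_comp]
  congr 2 <;> ext g <;> simp [map_upR, map_loR]

theorem genPairR_eq {k K : Type*} [Field k] [Field K] [Algebra k K] (α : K) :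
    genPairR k α = RankOne.genPair k α := rfl

end Cfsg.Agent.QuadPair
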